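import Cfsg.Agent.H72.FFG

/-!
A `p`-minimal group with `O_p = 1` and an offender on a faithful module moves a fixed point of a
Sylow `p`-subgroup.
-/

set_option autoImplicit false

namespace Cfsg.Agent.H61

open Subgroup Matrix Cfsg.Agent.H70 Cfsg.Agent.H92 Cfsg.Agent.H72
open Cfsg.Agent.H69 (fixA dl dl_apply smul_eq_add_dl dl_conj dl_eq_zero mem_fixA mem_fixA'
  fixA_anti fixA_sup SL2 up lo wn dg wn10 mulVec_two quotAct sl2_ext sl2_mul_apply sl2_det
  up00 up01 up10 up11 lo00 lo01 lo10 lo11 dg00 dg01 dg10 dg11)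

variable {Γ : Type*} [Group Γ] {V : Type*} [AddCommGroup V] [DistribMulAction Γ V] {p : ℕ}
  {W : Type*} [AddCommGroup W] [DistribMulAction Γ W]

theorem ffm_zero (hV : ∀ v : V, p • v = 0) {n : ℕ} (hn : n.Coprime p) {v : V} (h : n • v = 0) :
    v = 0 := by
  have h1 := addOrderOf_dvd_of_nsmul_eq_zero h
  have h2 := addOrderOf_dvd_of_nsmul_eq_zero (hV v)
  exact AddMonoid.addOrderOf_eq_one_iff.1 (Nat.eq_one_of_dvd_coprimes hn h1 h2)

theorem ffm_pow {g : Γ} {v : V} (h : g • dl g v = dl g v) (n : ℕ) :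
    g ^ n • v = v + n • dl g v := by
  induction n with
  | zero => simp
  | succ n ih =>
    rw [pow_succ', mul_smul, ih, smul_add, smul_comm g n, h, smul_eq_add_dl g v, succ_nsmul]
    abel

theorem ffm_cop (hV : ∀ v : V, p • v = 0) {g : Γ} {v : V} (h : g • dl g v = dl g v) {n : ℕ}
    (hn : n.Coprime p) (e : g ^ n • v = v) : g • v = v := by
  rw [ffm_pow h, add_eq_left] at e
  exact dl_eq_zero_iff.1 (ffm_zero hV hn e)

variable (p Γ) in
/-- `φ : V → W` is the quotient map of `V` by the fixed points of all `p'`-elements. -/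
structure QuoM (φ : V →+ W) : Prop where
  eqv : ∀ (g : Γ) v, φ (g • v) = g • φ v
  surj : Function.Surjective φ
  ker : ∀ v, φ v = 0 ↔ ∀ g : Γ, (orderOf g).Coprime p → g • v = v

variable {φ : V →+ W} {T M X A : Subgroup Γ}

theorem QuoM.dl_eq (h : QuoM Γ p φ) (g : Γ) (v : V) : φ (dl g v) = dl g (φ v) := by
  rw [dl_apply, dl_apply, map_sub, h.eqv]

theorem QuoM.fix_of (h : QuoM Γ p φ) (hV : ∀ v : V, p • v = 0) {g : Γ}
    (hg : (orderOf g).Coprime p) {v : V} (e : g • φ v = φ v) : g • v = v :=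
  ffm_cop hV ((h.ker _).1 (by rw [h.dl_eq, dl_eq_zero_iff.2 e]) g hg) hg (by
    rw [pow_orderOf_eq_one, one_smul])

theorem QuoM.eq_zero (h : QuoM Γ p φ) (hV : ∀ v : V, p • v = 0) {w : W}
    (e : ∀ g : Γ, g • w = w) : w = 0 := by
  obtain ⟨v, rfl⟩ := h.surj w
  exact (h.ker v).2 fun g hg => h.fix_of hV hg (e g)

theorem QuoM.hW (h : QuoM Γ p φ) (hV : ∀ v : V, p • v = 0) (w : W) : p • w = 0 := by
  obtain ⟨v, rfl⟩ := h.surj w
  rw [← map_nsmul, hV, map_zero]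

variable [hp : Fact p.Prime] [Finite Γ]

theorem QuoM.faith (h : QuoM Γ p φ) (hV : ∀ v : V, p • v = 0) (hf : Faith Γ V)
    (hO : pCoreOf p (⊤ : Subgroup Γ) = ⊥) : Faith Γ W := by
  let K : Subgroup Γ := (MulAction.toPermHom Γ W).ker
  have mK : ∀ g, g ∈ K ↔ ∀ w : W, g • w = w := fun g => by
    simp [K, MonoidHom.mem_ker, Equiv.ext_iff]
  have hK : IsPGroup p K := isPGroup_iff_mem.2 fun g hg => by
    have h0 := (orderOf_pos g).ne'
    obtain ⟨k, m, hm, e⟩ := Nat.exists_eq_pow_mul_and_not_dvd h0 p hp.out.ne_one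
    refine ⟨k, hf _ fun v => h.fix_of hV ?_ ((mK _).1 (K.pow_mem hg _) _)⟩
    refine Nat.Coprime.coprime_dvd_left (orderOf_dvd_of_pow_eq_one ?_)
      ((Nat.Prime.coprime_iff_not_dvd hp.out).2 hm).symm
    rw [← pow_mul, ← e, pow_orderOf_eq_one]
  have : K = ⊥ := eq_bot_iff.2 (hO ▸ H70.le_pCoreOf le_top norm_of_normal hK)
  exact fun g hg => mem_bot.1 (this ▸ (mK g).2 hg)

theorem QuoM.ff [Finite W] (h : QuoM Γ p φ) (hV : ∀ v : V, p • v = 0) (hf : Faith Γ V)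
    (hT : SylIn p T ⊤) (hm : MinOver T ⊤ M) (hO : pCoreOf p (⊤ : Subgroup Γ) = ⊥) :
    FF W p T M := by
  refine ⟨h.hW hV, h.faith hV hf hO, hT, hm, hO, fun g hg => ?_⟩
  rcases hm.eq_or_le (X := fixingSubgroup Γ (fixA W T : Set W)) (le_fixing.2 le_rfl) le_top with
    e | e
  · exfalso
    have h1 : ¬ (⊤ : AddSubgroup W) ≤ ⊥ := fun e' => by
      obtain ⟨x, -, hx⟩ := SetLike.exists_of_lt hm.lt
      refine hx ((h.faith hV hf hO x fun w => ?_) ▸ M.one_mem)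
      rw [AddSubgroup.mem_bot.1 (e' (AddSubgroup.mem_top w)), smul_zero]
    obtain ⟨y, -, y0, hy⟩ := exists_fixed_mod (h.hW hV) hT.pgroup (Z := ⊥) (Y := ⊤)
      (fun s _ z hz => by rw [AddSubgroup.mem_bot.1 hz, smul_zero]; exact zero_mem _)
      (fun _ _ _ _ => trivial) h1
    refine y0 (AddSubgroup.mem_bot.2 (h.eq_zero hV fun x => ?_))
    exact (le_fixing.1 e.ge) (fun s hs => dl_eq_zero_iff.1 (hy s hs)) x (mem_top x)
  · exact e ((mem_fixingSubgroup_iff Γ).2 hg)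

omit hp [Finite Γ] in
theorem card_comap_eq [Finite V] (hs : Function.Surjective φ) (U : AddSubgroup W) :
    Nat.card (U.comap φ) * Nat.card W = Nat.card U * Nat.card V := by
  have h1 := (U.comap φ).card_mul_index
  have h2 := U.card_mul_index
  rw [AddSubgroup.index_comap_of_surjective _ hs] at h1
  rw [← h1, ← h2]; ring

omit hp [Finite Γ] in
theorem QuoM.off [Finite V] (h : QuoM Γ p φ) (hX : Nat.card V ≤ ms V X) : Nat.card W ≤ ms W X := by
  have h1 := card_comap_eq h.surj (fixA W X)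
  have h2 : Nat.card (fixA V X) ≤ Nat.card ((fixA W X).comap φ) :=
    AddSubgroup.card_le_of_le fun v hv x hx => by rw [← h.eqv, hv x hx]
  refine Nat.le_of_mul_le_mul_right ?_ (Nat.card_pos (α := V))
  rw [ms, mul_assoc, ← h1, mul_comm, ← mul_assoc]
  exact Nat.mul_le_mul_right _ (hX.trans (Nat.mul_le_mul_left _ h2))

omit hp in
theorem QuoM.lift [Finite V] [Finite W] (h : QuoM Γ p φ) (hX : Nat.card V ≤ ms V X)
    (hX' : ms W X ≤ Nat.card W) {v : V} (hv : φ v ∈ fixA W X) : v ∈ fixA V X := by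
  have h1 := card_comap_eq h.surj (fixA W X)
  have h2 : fixA V X ≤ (fixA W X).comap φ := fun v hv x hx => by rw [← h.eqv, hv x hx]
  have h3 : Nat.card ((fixA W X).comap φ) ≤ Nat.card (fixA V X) := by
    refine Nat.le_of_mul_le_mul_left ?_ (Nat.mul_pos (Nat.card_pos (α := X)) (Nat.card_pos (α := W)))
    calc Nat.card X * Nat.card W * Nat.card ((fixA W X).comap φ)
        = ms W X * Nat.card V := by rw [ms, mul_assoc, mul_assoc, ← h1]; ring
      _ ≤ Nat.card W * ms V X := Nat.mul_le_mul hX' hX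
      _ = _ := by rw [ms]; ring
  exact (AddSubgroup.eq_of_le_of_card_ge h2 h3).ge hv

omit hp [Finite Γ] in
/-- The sum over an orbit. -/
theorem exists_orbit_sum [Finite V] {Y : Type*} [AddCommGroup Y] (χ : V →+ Y) {z : V}
    (h : ∀ t ∈ T, t • z = z ∨ χ (t • z) = 0) : ∃ y ∈ fixA V T, χ y = χ z := by
  classical
  have := Fintype.ofFinite V
  let Ω : Finset V := Finset.univ.filter fun y => ∃ t ∈ T, t • z = y
  have mΩ : ∀ y, y ∈ Ω ↔ ∃ t ∈ T, t • z = y := fun y => by simp [Ω]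
  refine ⟨∑ y ∈ Ω, y, fun t ht => ?_, ?_⟩
  · rw [Finset.smul_sum]
    refine Finset.sum_bij (fun y _ => t • y) (fun y hy => ?_) (fun a _ b _ e => ?_)
      (fun y hy => ?_) fun _ _ => rfl
    · obtain ⟨s, hs, rfl⟩ := (mΩ y).1 hy
      exact (mΩ _).2 ⟨_, T.mul_mem ht hs, mul_smul _ _ _⟩
    · exact MulAction.injective t e
    · obtain ⟨s, hs, rfl⟩ := (mΩ y).1 hy
      exact ⟨_, (mΩ _).2 ⟨_, T.mul_mem (T.inv_mem ht) hs, rfl⟩, by rw [mul_smul, smul_inv_smul]⟩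
  · rw [map_sum]
    refine Finset.sum_eq_single_of_mem z ((mΩ z).2 ⟨1, T.one_mem, one_smul _ _⟩) fun y hy e => ?_
    obtain ⟨s, hs, rfl⟩ := (mΩ y).1 hy
    exact (h s hs).resolve_left e

omit [Finite Γ] in
/-- A fixed point of a `p`-group `R` in `[U, S]`. -/
theorem exists_fixed_comm [Finite V] (hV : ∀ v : V, p • v = 0) {R : Subgroup Γ} (hR : IsPGroup p R)
    (U : AddSubgroup V) (S : Set Γ) (hU : ∀ r ∈ R, ∀ u ∈ U, r • u ∈ U)
    (hS : ∀ r ∈ R, ∀ s ∈ S, r * s * r⁻¹ ∈ S) (π : V →+ V)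
    (hπ : ∀ s ∈ S, ∀ u ∈ U, π (s • u) = π u ∧ s • u ∈ U) {s : Γ} (hs : s ∈ S) {u : V} (hu : u ∈ U)
    (hne : s • u ≠ u) : ∃ z ∈ U, z ≠ 0 ∧ z ∈ fixA V R ∧ π z = 0 := by
  let Y : AddSubgroup V := AddSubgroup.closure {x | ∃ s ∈ S, ∃ u ∈ U, dl s u = x}
  obtain ⟨y, hy, y0, hy'⟩ := exists_fixed_mod hV hR (Z := ⊥) (Y := Y)
    (fun s _ z hz => by rw [AddSubgroup.mem_bot.1 hz, smul_zero]; exact zero_mem _)
    (fun r hr z hz => ((AddSubgroup.closure_le (Y.comap (DistribSMul.toAddMonoidHom V r))).2 (by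
      rintro _ ⟨s, hs, u, hu, rfl⟩
      change r • dl s u ∈ Y
      rw [smul_dl]
      exact AddSubgroup.subset_closure ⟨_, hS r hr s hs, _, hU r hr u hu, rfl⟩)) hz)
    fun e => hne (dl_eq_zero_iff.1 (e (AddSubgroup.subset_closure ⟨s, hs, u, hu, rfl⟩)))
  have : Y ≤ U ⊓ π.ker := (AddSubgroup.closure_le _).2 (by
    rintro _ ⟨s, hs, u, hu, rfl⟩
    exact ⟨dl_mem_of_smul_mem (hπ s hs u hu).2 hu, by
      change π _ = 0
      rw [dl_apply, map_sub, (hπ s hs u hu).1, sub_self]⟩)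
  exact ⟨y, (this hy).1, y0, fun r hr => dl_eq_zero_iff.1 (hy' r hr), (this hy).2⟩

section
variable {F : Type*} [Field F] {σ : SL2 F →* Γ} {ψ : W →+ (Fin 2 → F)}

/-- The diagonal torus. -/
def dgU (F : Type*) [Field F] : Fˣ →* SL2 F :=
  MonoidHom.mk' (fun μ => dg (μ : F) μ.ne_zero) fun a b => by
    apply sl2_ext <;> simp [sl2_mul_apply, dg00, dg01, dg10, dg11, mul_comm]

theorem eq_dgU_mul {g : SL2 F} (hg : g.1 1 0 = 0) : ∃ μ c, g = dgU F μ * up c := by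
  have hd := sl2_det g
  rw [hg, mul_zero, sub_zero] at hd
  have h0 : g.1 0 0 ≠ 0 := left_ne_zero_of_mul_eq_one hd
  refine ⟨Units.mk0 _ h0, g.1 0 1 / g.1 0 0, ?_⟩
  change g = dg _ h0 * _
  apply sl2_ext <;> simp only [sl2_mul_apply, dg00, dg01, dg10, dg11, up00, up01, up10, up11]
  · simp
  · field_simp; simp
  · simp [hg]
  · simp [eq_inv_of_mul_eq_one_right hd]

omit hp [Finite Γ] in
theorem nat2_entry (hn : Nat2 F σ ψ A) {g : SL2 F} (hg : σ g ∈ normalizer (A : Set Γ)) :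
    g.1 1 0 = 0 := by
  by_contra e
  have := hn.sup_cj e
  rw [cj_eq_self hg, sup_idem] at this
  exact hn.not_cmA_le (this ▸ prp_iff.1 hn.quad)

theorem exists_z_big [Finite V] [Fintype F] (h : QuoM Γ p φ) (hV : ∀ v : V, p • v = 0)
    (hn : Nat2 F σ ψ A) (hA : IsPGroup p A) {R : Subgroup Γ} (hR : IsPGroup p R)
    (h1 : R ≤ normalizer (A : Set Γ)) (h2 : R ≤ normalizer (σ.range : Set Γ))
    (hl : ∀ v, φ v ∈ cmA W A → v ∈ fixA V A) {μ₀ : F} (m0 : μ₀ ≠ 0) (m1 : μ₀ ≠ 1) :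
    ∃ z ∈ fixA V R, φ z ∈ cmA W A ∧ ψ (φ z) ≠ 0 := by
  classical
  let π : V →+ V := ∑ μ : Fˣ, DistribSMul.toAddMonoidHom V (σ (dgU F μ))
  have hπ : ∀ v, π v = ∑ μ : Fˣ, σ (dgU F μ) • v := fun v => by
    simp only [π, AddMonoidHom.finsetSum_apply]; rfl
  have hc : (Fintype.card Fˣ).Coprime p := by
    obtain ⟨n, e⟩ := IsPGroup.iff_card.1 hA
    rw [hn.card_A, Nat.card_eq_fintype_card] at e
    have e1 : Fintype.card Fˣ + 1 = p ^ n := by
      rw [Fintype.card_units, ← e]; have := Fintype.card_pos (α := F); omega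
    have n0 : n ≠ 0 := fun e' => by
      have := Fintype.card_pos (α := Fˣ); rw [e', pow_zero] at e1; omega
    refine Nat.Coprime.coprime_dvd_right (dvd_pow_self p n0) ?_
    rw [← e1]; simp
  obtain ⟨w, hw, e⟩ := hn.exists_cmA 1
  obtain ⟨u, rfl⟩ := h.surj w
  obtain ⟨z, hz, z0, zR, zπ⟩ := exists_fixed_comm hV hR ((cmA W A).comap φ)
    {s | s ∈ σ.range ∧ s ∈ normalizer (A : Set Γ)}
    (fun r hr u hu => by
      change φ _ ∈ cmA W A
      rw [h.eqv]; exact smul_mem_cmA_of_norm (h1 hr) hu)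
    (fun r hr s hs => ⟨conj_mem_of_mem_norm (h2 hr) hs.1,
      mul_mem (mul_mem (h1 hr) hs.2) (inv_mem (h1 hr))⟩) π
    (fun s hs u hu => ⟨by
      obtain ⟨⟨g, rfl⟩, hg⟩ := hs
      obtain ⟨ν, c, rfl⟩ := eq_dgU_mul (nat2_entry hn hg)
      rw [map_mul, mul_smul, hl u hu _ (hn.up_mem c), hπ, hπ]
      refine Fintype.sum_equiv (Equiv.mulRight ν) _ _ fun μ => ?_
      rw [Equiv.coe_mulRight, map_mul, map_mul, mul_smul], by
      change φ _ ∈ cmA W A
      rw [h.eqv]; exact smul_mem_cmA_of_norm hs.2 hu⟩)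
    (s := σ (dg μ₀ m0)) ⟨⟨_, rfl⟩, hn.mem_norm (dg10 _ _)⟩ (u := u) hw fun e' => by
      have := hn.dg0 μ₀ m0 (φ u)
      rw [← h.eqv, e', e] at this
      simp at this
      exact m1 this.symm
  refine ⟨z, zR, hz, fun e' => z0 (ffm_zero hV hc ?_)⟩
  rw [← zπ, hπ, Finset.sum_congr rfl (g := fun _ => z) fun μ _ => ?_, Finset.sum_const,
    Finset.card_univ]
  refine h.fix_of hV (Nat.Coprime.coprime_dvd_left (orderOf_dvd_of_pow_eq_one ?_) hc)
    ((hn.ker _).1 e' _ ⟨_, rfl⟩)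
  rw [← map_pow, ← map_pow, pow_card_eq_one, map_one, map_one]

theorem exists_z_two [Finite V] [Fintype F] (h : QuoM Γ p φ) (hV : ∀ v : V, p • v = 0)
    (hf : Faith Γ V) (hn : Nat2 F σ ψ A) (hA : IsPGroup p A) {R : Subgroup Γ} (hR : IsPGroup p R)
    (h1 : A ≤ R) (h2 : R ≤ normalizer (σ.range : Set Γ)) (hF : ∀ μ : F, μ = 0 ∨ μ = 1) :
    ∃ z ∈ fixA V R, φ z ∈ cmA W A ∧ ψ (φ z) ≠ 0 := by
  have f2 : (1 : F) + 1 = 0 := (hF _).resolve_right (by simp)
  have p2 : p = 2 := by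
    obtain ⟨n, e⟩ := isPGroup_iff_mem.1 hA _ (hn.up_mem 1)
    have e2 : σ (up 1) ^ 2 = 1 := by
      rw [← map_pow, ← map_one σ, pow_two]
      congr 1
      apply sl2_ext <;> simp [sl2_mul_apply, up00, up01, up10, up11, f2]
    have := Fact.mk Nat.prime_two
    have e3 := orderOf_eq_prime e2 hn.up_one_ne
    exact ((Nat.prime_dvd_prime_iff_eq Nat.prime_two hp.out).1
      (Nat.prime_two.dvd_of_dvd_pow (e3 ▸ orderOf_dvd_of_pow_eq_one e))).symm
  subst p2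
  set c : SL2 F := up 1 * lo 1 with hc
  have c00 : c.1 0 0 = 0 := by simp [hc, sl2_mul_apply, up00, up01, lo00, lo10, f2]
  have c01 : c.1 0 1 = 1 := by simp [hc, sl2_mul_apply, up00, up01, lo01, lo11]
  have c10 : c.1 1 0 = 1 := by simp [hc, sl2_mul_apply, up10, up11, lo00, lo10]
  have c11 : c.1 1 1 = 1 := by simp [hc, sl2_mul_apply, up10, up11, lo01, lo11]
  clear_value c
  have c3 : c * (c * c) = 1 := by
    apply sl2_ext <;> simp [sl2_mul_apply, c00, c01, c10, c11, f2]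
  have ac : up 1 * c = c * c * up 1 := by
    apply sl2_ext <;> simp [sl2_mul_apply, c00, c01, c10, c11, f2, up00, up01, up10, up11]
  have all : ∀ g : SL2 F, g * g = 1 ∨ g = c ∨ g = c * c := fun g => by
    have hd := sl2_det g
    rcases hF (g.1 0 0) with a | a <;> rcases hF (g.1 0 1) with b | b <;>
      rcases hF (g.1 1 0) with d | d <;> rcases hF (g.1 1 1) with e | e <;>
      first
      | (exfalso; simp [a, b, d, e] at hd; done)
      | (left; apply sl2_ext <;> simp [sl2_mul_apply, a, b, d, e, f2]; done)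
      | (right; left; apply sl2_ext <;> simp [a, b, d, e, c00, c01, c10, c11]; done)
      | (right; right; apply sl2_ext <;> simp [sl2_mul_apply, a, b, d, e, c00, c01, c10, c11, f2]; done)
  have s3 : ∀ v : V, σ c • σ c • σ c • v = v := fun v => by
    rw [← mul_smul, ← mul_smul, ← map_mul, ← map_mul, mul_assoc, c3, map_one, one_smul]
  let π : V →+ V := AddMonoidHom.id V + DistribSMul.toAddMonoidHom V (σ c) +
    DistribSMul.toAddMonoidHom V (σ c * σ c)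
  have hπ : ∀ v, π v = v + σ c • v + σ c • σ c • v := fun v => by rw [← mul_smul]; rfl
  have c1 : σ c ≠ 1 := fun e => by
    have := hn.inj (e.trans (map_one σ).symm)
    rw [this] at c00; simp at c00
  obtain ⟨u, hu⟩ : ∃ u : V, σ c • u ≠ u := not_forall.1 (mt (hf _) c1)
  have c3' : σ c ^ 3 = 1 := by rw [← map_pow, pow_three, c3, map_one]
  obtain ⟨z, -, z0, zR, zπ⟩ := exists_fixed_comm hV hR ⊤ {s | s ∈ σ.range ∧ s ^ 3 = 1}
    (fun _ _ _ _ => trivial)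
    (fun r hr s hs => ⟨conj_mem_of_mem_norm (h2 hr) hs.1, by rw [conj_pow, hs.2]; simp⟩) π
    (fun s hs u _ => ⟨by
      obtain ⟨⟨g, rfl⟩, hg⟩ := hs
      rcases all g with e | rfl | rfl
      · rw [pow_three, ← map_mul, e, map_one, mul_one] at hg
        rw [hg, one_smul]
      · rw [hπ, hπ, s3]; abel
      · rw [hπ, hπ, map_mul, mul_smul, s3]; abel, trivial⟩)
    (s := σ c) ⟨⟨_, rfl⟩, c3'⟩ (u := u) trivial hu
  rw [hπ] at zπ
  refine ⟨z, zR, ?_, fun e' => z0 (ffm_zero hV (n := 3) (by norm_num) ?_)⟩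
  · have e : dl (σ (up 1)) (σ c • z) = z := by
      rw [dl_apply, ← mul_smul, ← map_mul, ac, map_mul, map_mul, mul_smul, mul_smul,
        zR _ (h1 (hn.up_mem 1))]
      have a1 := hV z
      have a2 := hV (σ c • z)
      rw [two_nsmul] at a1 a2
      rw [← sub_eq_zero, ← zπ, ← sub_eq_zero]
      rw [show σ c • σ c • z - σ c • z - z - (z + σ c • z + σ c • σ c • z) =
        - (z + z) - (σ c • z + σ c • z) by abel, a1, a2, neg_zero, sub_zero]
    rw [← e, h.dl_eq]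
    exact dl_mem_cmA (hn.up_mem 1) _
  · have e : σ c • z = z := h.fix_of hV
      (Nat.Coprime.coprime_dvd_left (orderOf_dvd_of_pow_eq_one c3') (by norm_num))
      ((hn.ker _).1 e' _ ⟨_, rfl⟩)
    rw [e, e] at zπ
    rw [← zπ]; abel

end

theorem QuoM.main [Finite V] [Finite W] (h : QuoM Γ p φ) (hV : ∀ v : V, p • v = 0)
    (hf : Faith Γ V) (hT : SylIn p T ⊤) (hm : MinOver T ⊤ M) (hO : pCoreOf p (⊤ : Subgroup Γ) = ⊥)
    (hXT : X ≤ T) (hc : X ≤ centralizer (X : Set Γ)) (h0 : X ≠ ⊥) (hX : Nat.card V ≤ ms V X) :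
    ¬ fixA V T ≤ fixA V (⊤ : Subgroup Γ) := by
  have hF := h.ff hV hf hT hm hO
  obtain ⟨A₀, hAX, hA, -⟩ := exists_inD (V := W) (hT.pgroup.to_le hXT) hc h0 (h.off hX)
  obtain ⟨g, H, K, o⟩ := hF.exists_out hA
  obtain ⟨s, hs, e⟩ := o.exists_eq_cj hF hA (hAX.trans hXT)
  have a1 : cj g A₀ ≤ cj s X := e ▸ cj_mono s hAX
  have a2 : cj s X ≤ T := cj_le_of_mem hs hXT
  have a3 : cj s X ≤ centralizer (cj s X : Set Γ) := by
    rw [← cj_centralizer]; exact cj_mono s hc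
  rw [← ms_cj s] at hX
  generalize cj s X = Y at *
  generalize cj g A₀ = A at *
  have hY := o.offender_le hF a2 a3 (h.off hX)
  have hl : ∀ v, φ v ∈ cmA W A → v ∈ fixA V A := fun v hv =>
    fixA_anti a1 (h.lift hX (hF.ms_le (hT.pgroup.to_le a2) a3) (fixA_anti hY (prp_iff.1
      (prp_iSup_right fun t : T => hF.prp o.inD (o.inD.cj t) (hF.comm_of_le o.inD (o.inD.cj t)
        hT.pgroup o.AT (cj_le_of_mem t.2 o.AT))) hv)))
  obtain ⟨F, _, _, σ, ψ, hn, rfl⟩ := o.nat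
  have h2 : T ⊓ normalizer (A : Set Γ) ≤ normalizer (σ.range : Set Γ) :=
    (inf_le_inf_right _ hm.le).trans o.norm
  obtain ⟨z, zR, zA, z0⟩ : ∃ z ∈ fixA V (T ⊓ normalizer (A : Set Γ)),
      φ z ∈ cmA W A ∧ ψ (φ z) ≠ 0 := by
    by_cases hq : ∃ μ : F, μ ≠ 0 ∧ μ ≠ 1
    · obtain ⟨μ, m0, m1⟩ := hq
      exact exists_z_big h hV hn o.inD.pg hT.pgroup.to_inf_left inf_le_right h2 hl m0 m1
    · exact exists_z_two h hV hf hn o.inD.pg hT.pgroup.to_inf_left (le_inf o.AT le_normalizer) h2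
        fun μ => by_contra fun e => hq ⟨μ, not_or.1 e⟩
  obtain ⟨y, hy, e'⟩ := exists_orbit_sum (T := T) (ψ.comp φ) (z := z) fun t ht => by
    by_cases e : cj t A = A
    · exact Or.inl (zR t ⟨ht, cj_eq_self_iff.1 e⟩)
    · refine Or.inr ((hn.ker _).2 (o.cmA_le_of_ne hF (o.inD.cj t) (cj_le_of_mem ht o.AT) e ?_))
      rw [h.eqv]; exact smul_mem_cmA_cj t zA
  intro k
  refine z0 (e'.symm.trans ?_)
  change ψ (φ y) = 0
  rw [(h.ker y).2 fun x _ => k hy x (mem_top x), map_zero]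

theorem not_fix_le [Finite V] (hV : ∀ v : V, p • v = 0)
    (hf : Faith Γ V) (hT : SylIn p T ⊤) (hm : MinOver T ⊤ M) (hO : pCoreOf p (⊤ : Subgroup Γ) = ⊥)
    (hXp : IsPGroup p X) (hc : X ≤ centralizer (X : Set Γ)) (h0 : X ≠ ⊥)
    (hX : Nat.card V ≤ ms V X) : ¬ fixA V T ≤ fixA V (⊤ : Subgroup Γ) := by
  let Z : AddSubgroup V := fixA V (closure {g : Γ | (orderOf g).Coprime p})
  have mZ : ∀ v, v ∈ Z ↔ ∀ g : Γ, (orderOf g).Coprime p → g • v = v := fun v =>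
    ⟨fun hv g hg => hv g (subset_closure hg), fun hv =>
      mem_fixA'.2 ((closure_le _).2 fun g hg => hv g hg)⟩
  have hZ : ∀ g : Γ, ∀ z ∈ Z, g • z ∈ Z := fun g z hz => (mZ _).2 fun x hx => by
    have := (mZ z).1 hz (g⁻¹ * x * g⁻¹⁻¹) (by
      rwa [show orderOf (g⁻¹ * x * g⁻¹⁻¹) = orderOf x from
        (SemiconjBy.orderOf_eq g⁻¹ (by simp [SemiconjBy])).symm])
    rwa [inv_inv, mul_smul, mul_smul, inv_smul_eq_iff] at this
  let _ := quotAct Z hZ
  have h : QuoM Γ p (QuotientAddGroup.mk' Z) := ⟨fun _ _ => rfl, QuotientAddGroup.mk'_surjective Z,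
    fun v => (QuotientAddGroup.eq_zero_iff v).trans (mZ v)⟩
  obtain ⟨k, -, hk⟩ := sylIn_exists_cj_le hT le_top hXp
  refine h.main hV hf hT hm hO hk ?_ (mt cj_eq_bot_iff.1 h0) (by rwa [ms_cj])
  rw [← cj_centralizer]; exact cj_mono k hc

end Cfsg.Agent.H61
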