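import Cfsg.Agent.H61.QuadLA
import Cfsg.Agent.H61.Control
import Cfsg.Agent.H62.Sec

/-!
A two-dimensional section on which a transvection and a torus element act: it forces the group
`F(p)` and a fully automized subgroup of order `p`.
-/

set_option autoImplicit false

namespace Cfsg.Agent.H61

open Subgroup Matrix
open scoped MatrixGroups commutatorElement

variable {G : Type*} [Group G] {p : ℕ}

/-- `φ` maps `B` onto the plane, `a` acts as a transvection, `t` as `diag(l, l⁻¹)`, and `z` maps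
to the first basis vector. -/
structure Wit (p : ℕ) (l : (ZMod p)ˣ) (B : Subgroup G) (φ : G → Fin 2 → ZMod p) (a t z : G) :
    Prop where
  mul : ∀ x ∈ B, ∀ y ∈ B, φ (x * y) = φ x + φ y
  surj : ∀ c, ∃ x ∈ B, φ x = c
  acta : ∀ x ∈ B, a * x * a⁻¹ ∈ B ∧ φ (a * x * a⁻¹) = ![φ x 0 + φ x 1, φ x 1]
  actt : ∀ x ∈ B, t * x * t⁻¹ ∈ B ∧
    φ (t * x * t⁻¹) = ![(l : ZMod p) * φ x 0, ((l⁻¹ : (ZMod p)ˣ) : ZMod p) * φ x 1]
  mem : z ∈ B
  val : φ z = ![1, 0]

section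
variable {l : (ZMod p)ˣ} {B : Subgroup G} {φ : G → Fin 2 → ZMod p} {a t z : G}

theorem Wit.of_same (h : Wit p l B φ a t z) {a' t' : G} (ha : Same B a' a) (ht : Same B t' t) :
    Wit p l B φ a' t' z :=
  ⟨h.mul, h.surj, fun x hx => by rw [ha x hx]; exact h.acta x hx,
    fun x hx => by rw [ht x hx]; exact h.actt x hx, h.mem, h.val⟩

theorem Wit.one (h : Wit p l B φ a t z) : φ 1 = 0 := by
  have := h.mul 1 B.one_mem 1 B.one_mem
  rw [mul_one] at this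
  exact left_eq_add.1 this

theorem Wit.inv (h : Wit p l B φ a t z) {x : G} (hx : x ∈ B) : φ x⁻¹ = -φ x := by
  have := h.mul x⁻¹ (B.inv_mem hx) x hx
  rw [inv_mul_cancel, h.one] at this
  exact eq_neg_of_add_eq_zero_left this.symm

theorem Wit.pow (h : Wit p l B φ a t z) {x : G} (hx : x ∈ B) (n : ℕ) : φ (x ^ n) = n • φ x := by
  induction n with
  | zero => rw [pow_zero, h.one, zero_nsmul]
  | succ n ih => rw [pow_succ, h.mul _ (B.pow_mem hx n) _ hx, ih, succ_nsmul]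

theorem Wit.change (h : Wit p l B φ a t z) {z' : G} (hz : z' ∈ B) (he : φ z' = φ z) :
    Wit p l B φ a t z' := ⟨h.mul, h.surj, h.acta, h.actt, hz, he.trans h.val⟩

theorem mem_fOver_upper [Fact p.Prime] {M : SL(3, ZMod p)} (h : M ∈ fOver (ZMod p)) :
    M ∈ qd p ∧ M.1 1 0 = 0 := by
  induction h using closure_induction with
  | mem M h => exact ⟨H60.mem_qd.2 h.2, h.1⟩
  | one => exact ⟨one_mem _, by simp⟩
  | mul A C _ _ hA hC =>
    refine ⟨mul_mem hA.1 hC.1, ?_⟩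
    change (A.1 * C.1) 1 0 = 0
    simp [Matrix.mul_apply, Fin.sum_univ_three, hA.2, hC.2, (H60.mem_qd.1 hC.1).1]
  | inv A _ hA =>
    refine ⟨inv_mem hA.1, ?_⟩
    change adjugate A.1 1 0 = 0
    simp [adjugate_fin_three, hA.2, (H60.mem_qd.1 hA.1).1]

theorem diagT_mul {K : Type*} [CommRing K] (x y : Kˣ) : diagT (x * y) = diagT x * diagT y := by
  apply Subtype.ext
  change !![((x * y : Kˣ) : K), 0; 0, (((x * y)⁻¹ : Kˣ) : K)] =
    !![(x : K), 0; 0, ((x⁻¹ : Kˣ) : K)] * !![(y : K), 0; 0, ((y⁻¹ : Kˣ) : K)]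
  ext i j
  fin_cases i <;> fin_cases j <;> simp [mul_comm]

theorem upper_mem [Fact p.Prime] (hl : ∀ x : (ZMod p)ˣ, x ∈ zpowers l) {D : Subgroup SL(2, ZMod p)}
    (h1 : H21.upperT 1 ∈ D) (h2 : diagT l ∈ D) {M : SL(2, ZMod p)} (hM : M.1 1 0 = 0) : M ∈ D := by
  have hdet : M.1 0 0 * M.1 1 1 = 1 := by
    have := M.2
    rwa [Matrix.det_fin_two, hM, mul_zero, sub_zero] at this
  let x : (ZMod p)ˣ := ⟨M.1 0 0, M.1 1 1, hdet, by rw [mul_comm, hdet]⟩
  have hx : diagT x ∈ D := by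
    obtain ⟨n, hn⟩ := hl x
    let f : (ZMod p)ˣ →* SL(2, ZMod p) := MonoidHom.mk' diagT diagT_mul
    have : diagT x = diagT l ^ n := by rw [← hn]; exact map_zpow f l n
    rw [this]
    exact D.zpow_mem h2 n
  have hs : H21.upperT (M.1 1 1 * M.1 0 1) ∈ D := by
    have := D.pow_mem h1 (M.1 1 1 * M.1 0 1).val
    rwa [H21.upperT_pow, ZMod.natCast_zmod_val, mul_one] at this
  convert D.mul_mem hx hs
  apply Subtype.ext
  change M.1 = !![M.1 0 0, 0; 0, M.1 1 1] * !![1, M.1 1 1 * M.1 0 1; 0, 1]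
  ext i j
  fin_cases i <;> fin_cases j <;> simp [hM]
  rw [← mul_assoc, hdet, one_mul]

/-- pairs `(g, M)` such that `g ∈ H` induces `M` on the plane -/
def witPairs [Finite G] (H B : Subgroup G) (φ : G → Fin 2 → ZMod p) :
    Subgroup (G × SL(2, ZMod p)) where
  carrier := {x | x.1 ∈ H ∧ x.1 ∈ normalizer (B : Set G) ∧
    ∀ y ∈ B, φ (x.1 * y * x.1⁻¹) = x.2.1 *ᵥ φ y}
  one_mem' := ⟨one_mem _, one_mem _, fun y _ => by simp⟩
  mul_mem' := by
    rintro x y ⟨h1, h2, h3⟩ ⟨h4, h5, h6⟩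
    refine ⟨mul_mem h1 h4, mul_mem h2 h5, fun w hw => ?_⟩
    have := h3 _ (H72.conj_mem_of_mem_normalizer h5 hw)
    rw [h6 w hw, mulVec_mulVec] at this
    refine Eq.trans ?_ this
    congr 1
    change x.1 * y.1 * w * (x.1 * y.1)⁻¹ = _
    group
  inv_mem' := by
    rintro x ⟨h1, h2, h3⟩
    refine ⟨inv_mem h1, inv_mem h2, fun w hw => ?_⟩
    have := h3 _ (H72.conj_mem_of_mem_normalizer (inv_mem h2) hw)
    change φ (x.1⁻¹ * w * x.1⁻¹⁻¹) = (x.2⁻¹).1 *ᵥ φ w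
    rw [show x.1 * (x.1⁻¹ * w * x.1⁻¹⁻¹) * x.1⁻¹ = w by group] at this
    rw [this, mulVec_mulVec, ← Matrix.SpecialLinearGroup.coe_mul, inv_mul_cancel,
      Matrix.SpecialLinearGroup.coe_one, one_mulVec]

theorem Wit.involves [Finite G] [hp : Fact p.Prime] (hp2 : p ≠ 2) (h : Wit p l B φ a t z)
    (hl : ∀ x : (ZMod p)ˣ, x ∈ zpowers l) {H : Subgroup G} (hB : B ≤ H) (ha : a ∈ H) (ht : t ∈ H) :
    Involves (fOver (ZMod p)) H := by
  set L := witPairs H B φ with hL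
  let ρ : L →* SL(2, ZMod p) := (MonoidHom.snd _ _).comp L.subtype
  let ι : L →* G := (MonoidHom.fst _ _).comp L.subtype
  have hact : ∀ (x : L), ∀ y ∈ B, φ (ι x * y * (ι x)⁻¹) = (ρ x).1 *ᵥ φ y := fun x => x.2.2.2
  have hιN : ∀ (x : L), ∀ y ∈ B, ι x * y * (ι x)⁻¹ ∈ B := fun x y hy =>
    H72.conj_mem_of_mem_normalizer x.2.2.1 hy
  have hρB : ∀ x : L, ι x ∈ B → ρ x = 1 := fun x hx => H60.sl2_eq_of_mulVec fun c => by
    obtain ⟨y, hy, rfl⟩ := h.surj c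
    rw [← hact x y hy, h.mul _ (B.mul_mem hx hy) _ (B.inv_mem hx), h.mul _ hx _ hy, h.inv hx]
    simp
  have : Finite SL(2, ZMod p) := Finite.of_injective _ Subtype.val_injective
  have hup : ∀ M : SL(2, ZMod p), M.1 1 0 = 0 → M ∈ ρ.range := fun M hM => by
    refine upper_mem hl (D := ρ.range) ⟨⟨(a, H21.upperT 1), ha, H72.mem_normalizer_of_conj_mem
      (fun y hy => (h.acta y hy).1), fun y hy => ?_⟩, rfl⟩
      ⟨⟨(t, diagT l), ht, H72.mem_normalizer_of_conj_mem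
      (fun y hy => (h.actt y hy).1), fun y hy => ?_⟩, rfl⟩ hM
    · rw [(h.acta y hy).2]
      change _ = !![1, 1; 0, 1] *ᵥ φ y
      ext i
      fin_cases i <;> simp [mulVec, dotProduct, Fin.sum_univ_two]
    · rw [(h.actt y hy).2, coe_diagT]
      generalize ((l⁻¹ : (ZMod p)ˣ) : ZMod p) = m
      generalize (l : ZMod p) = k
      ext i
      fin_cases i <;> simp [mulVec, dotProduct, Fin.sum_univ_two]
  have : Fact (Nat.Prime 2) := ⟨Nat.prime_two⟩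
  have hc : (-1 : SL(2, ZMod p)) ∈ center SL(2, ZMod p) := by
    rw [mem_center_iff]; intro g; simp
  have hzn : (zpowers (-1 : SL(2, ZMod p))).Normal := by
    refine ⟨fun n hn g => ?_⟩
    have := mem_center_iff.mp (zpowers_le.mpr hc hn) g
    rw [this, mul_inv_cancel_right]; exact hn
  let C : Subgroup L := (zpowers (-1 : SL(2, ZMod p))).comap ρ
  have hz2 : IsPGroup 2 (zpowers (-1 : SL(2, ZMod p))) :=
    isPGroup_zpowers_of_pow (k := 1) (by simp)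
  obtain ⟨s, hs⟩ := hup (-1) (by simp)
  obtain ⟨P, hPC, hP2, hPm⟩ := H22.exists_isPGroup_map_eq ρ (H := C) hz2
    (zpowers_le.2 ⟨s, mem_comap.2 (hs ▸ mem_zpowers _), hs⟩)
  obtain ⟨T, hT, hPT⟩ := H72.exists_isSylowIn_ge hP2 hPC
  obtain ⟨τ, hτP, hτ⟩ : (-1 : SL(2, ZMod p)) ∈ P.map ρ := hPm ▸ mem_zpowers _
  have hτT : τ ∈ T := hPT hτP
  set N := normalizer (T : Set L) with hN
  have hNtop : ∀ M ∈ ρ.range, M ∈ N.map ρ := by
    rintro _ ⟨x, rfl⟩
    obtain ⟨n, hn, y, hy, rfl⟩ := hT.frattini (H := ⊤) le_normalizer_of_normal (mem_top x)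
    rw [map_mul]
    refine mul_mem ?_ (mem_map_of_mem ρ hy)
    exact zpowers_le.2 (hτ ▸ mem_map_of_mem ρ (le_normalizer hτT)) (mem_comap.1 hn)
  have hNV : ∀ n ∈ N, ι n ∈ B → φ (ι n) = 0 := by
    intro n hn hnB
    have h1 : n * τ * n⁻¹ * τ⁻¹ ∈ T := T.mul_mem ((mem_normalizer_iff.mp hn τ).mp hτT) (T.inv_mem hτT)
    have h0 : ι (n * τ * n⁻¹ * τ⁻¹) = ι n * (ι τ * (ι n)⁻¹ * (ι τ)⁻¹) := by
      rw [map_mul, map_mul, map_mul, map_inv, map_inv]; group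
    have hB1 := hιN τ _ (B.inv_mem hnB)
    have h2 : φ (ι (n * τ * n⁻¹ * τ⁻¹)) = 2 • φ (ι n) := by
      rw [h0, h.mul _ hnB _ hB1, hact τ _ (B.inv_mem hnB), hτ, h.inv hnB, two_nsmul]
      congr 1
      change (-1 : Matrix (Fin 2) (Fin 2) (ZMod p)) *ᵥ _ = _
      simp [neg_mulVec]
    obtain ⟨k, hk⟩ := hT.isPGroup ⟨_, h1⟩
    have hk' : (n * τ * n⁻¹ * τ⁻¹) ^ 2 ^ k = 1 := congrArg Subtype.val hk
    have h4 : (2 ^ k) • (2 • φ (ι n)) = 0 := by
      rw [← h2, ← h.pow (h0 ▸ B.mul_mem hnB hB1), ← map_pow, hk', map_one, h.one]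
    rw [smul_smul, ← Nat.cast_smul_eq_nsmul (ZMod p), smul_eq_zero] at h4
    refine h4.resolve_left ?_
    rw [ZMod.natCast_eq_zero_iff, ← pow_succ]
    intro h5
    exact hp2 ((Nat.prime_dvd_prime_iff_eq hp.out Nat.prime_two).mp (hp.out.dvd_of_dvd_pow h5))
  let j : fOver (ZMod p) →* qd p := inclusion fun M hM => (mem_fOver_upper hM).1
  have hj : Function.Injective j := inclusion_injective _
  let E : Subgroup (fOver (ZMod p) × H) :=
    { carrier := {w | ∃ x ∈ B, ∃ n ∈ N, (w.2 : G) = x * ι n ∧ φ x = H60.qdTr (j w.1) ∧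
        ρ n = H60.qdLin p (j w.1)}
      one_mem' := ⟨1, one_mem _, 1, one_mem _, by simp, by
        rw [h.one, Prod.fst_one, map_one, H60.qdTr_one], by rw [Prod.fst_one, map_one, map_one, map_one]⟩
      mul_mem' := by
        rintro u w ⟨x, hx, n, hn, e1, e2, e3⟩ ⟨y, hy, m, hm, f1, f2, f3⟩
        refine ⟨x * (ι n * y * (ι n)⁻¹), mul_mem hx (hιN n y hy), n * m, mul_mem hn hm, ?_, ?_, ?_⟩
        · rw [Prod.snd_mul, coe_mul, e1, f1, map_mul]; group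
        · rw [h.mul _ hx _ (hιN n y hy), hact n y hy, Prod.fst_mul, map_mul, H60.qdTr_mul, e2, e3, f2]
        · rw [map_mul, e3, f3, Prod.fst_mul, map_mul, map_mul]
      inv_mem' := by
        rintro u ⟨x, hx, n, hn, e1, e2, e3⟩
        refine ⟨ι n⁻¹ * x⁻¹ * (ι n⁻¹)⁻¹, hιN _ _ (B.inv_mem hx), n⁻¹, inv_mem hn, ?_, ?_, ?_⟩
        · rw [Prod.snd_inv, coe_inv, e1, map_inv]; group
        · have h1 := H60.qdTr_mul (j u.1)⁻¹ (j u.1)
          rw [inv_mul_cancel, H60.qdTr_one] at h1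
          rw [hact _ _ (B.inv_mem hx), h.inv hx, map_inv, e2, e3, Prod.fst_inv, map_inv, mulVec_neg,
            ← map_inv]
          exact (eq_neg_of_add_eq_zero_left h1.symm).symm
        · rw [map_inv, e3, Prod.fst_inv, map_inv, map_inv] }
  refine H94.involves_of_inj_surj ((MonoidHom.snd _ _).comp E.subtype) ?_
    ((MonoidHom.fst _ _).comp E.subtype) ?_
  · rw [injective_iff_map_eq_one]
    rintro ⟨⟨q, g⟩, x, hx, n, hn, e1, e2, e3⟩ hg
    obtain rfl : g = 1 := hg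
    have h1 : ι n = x⁻¹ := eq_inv_of_mul_eq_one_right e1.symm
    have h2 : ι n ∈ B := h1 ▸ B.inv_mem hx
    have h3 := hNV n hn h2
    rw [h1, h.inv hx, neg_eq_zero] at h3
    have h4 : j q = 1 := H60.qd_eq_one_of (e3.symm.trans (hρB n h2)) (e2.symm.trans h3)
    exact Subtype.ext (Prod.ext (hj (h4.trans (map_one j).symm)) rfl)
  · intro q
    obtain ⟨n, hn, hnq⟩ := hNtop _ (hup (H60.qdLin p (j q)) (mem_fOver_upper q.2).2)
    obtain ⟨x, hx, hxq⟩ := h.surj (H60.qdTr (j q))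
    exact ⟨⟨(q, ⟨x * ι n, mul_mem (hB hx) n.2.1⟩), x, hx, n, hn, rfl, hxq, hnq⟩, rfl⟩

theorem Wit.exists_eigen [Finite G] [hp : Fact p.Prime] (h : Wit p l B φ a t z) {Z : Subgroup G}
    (hZ : IsPGroup p Z) (hc : IsMulCommutative Z) (ht : t ∈ normalizer (Z : Set G)) (hz : z ∈ Z) :
    ∃ c ∈ Z, orderOf c = p ∧ t * c * t⁻¹ = c ^ (l : ZMod p).val := by
  set n := (l : ZMod p).val with hn
  have hcm : ∀ x ∈ Z, ∀ y ∈ Z, x * y = y * x := fun x hx y hy =>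
    congrArg Subtype.val (hc.is_comm.comm ⟨x, hx⟩ ⟨y, hy⟩)
  have hmem : ∀ y ∈ Z ⊓ B, t * y * t⁻¹ * (y ^ n)⁻¹ ∈ Z ⊓ B := fun y hy =>
    mul_mem (mem_inf.2 ⟨H72.conj_mem_of_mem_normalizer ht hy.1, (h.actt y hy.2).1⟩)
      (inv_mem (pow_mem hy n))
  let ψ : ↥(Z ⊓ B) →* ↥(Z ⊓ B) := MonoidHom.mk' (fun y => ⟨_, hmem y y.2⟩) fun x y => by
    apply Subtype.ext
    change t * (x * y) * t⁻¹ * (((x : G) * y) ^ n)⁻¹ =
      t * x * t⁻¹ * ((x : G) ^ n)⁻¹ * (t * y * t⁻¹ * ((y : G) ^ n)⁻¹)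
    have h1 : Commute (x : G) y := hcm _ x.2.1 _ y.2.1
    have h2 := hcm _ (Z.inv_mem (Z.pow_mem x.2.1 n)) _ (hmem y y.2).1
    rw [h1.mul_pow, mul_assoc (t * x * t⁻¹), h2]
    group
  have hns : ¬ Function.Surjective ψ := fun hs => by
    obtain ⟨y, hy⟩ := hs ⟨z, hz, h.mem⟩
    have h1 : t * y * t⁻¹ * ((y : G) ^ n)⁻¹ = z := congrArg Subtype.val hy
    have h2 := congrFun h.val 0
    rw [← h1, h.mul _ (h.actt _ y.2.2).1 _ (B.inv_mem (B.pow_mem y.2.2 n)), (h.actt _ y.2.2).2,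
      h.inv (B.pow_mem y.2.2 n), h.pow y.2.2] at h2
    have h3 : (l : ZMod p) * φ y 0 + -(n • φ y 0) = 1 := h2
    rw [nsmul_eq_mul, hn, ZMod.natCast_zmod_val, add_neg_cancel] at h3
    exact zero_ne_one h3
  rw [← Finite.injective_iff_surjective, injective_iff_map_eq_one] at hns
  push Not at hns
  obtain ⟨y, hy, hy1⟩ := hns
  obtain ⟨k, hk⟩ := hZ ⟨y, y.2.1⟩
  obtain ⟨m, hm1, hm2⟩ := H60.exists_pow_order_prime (p := p) (a := (y : G))
    (fun h => hy1 (Subtype.ext h)) ⟨k, congrArg Subtype.val hk⟩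
  have h1 : t * y * t⁻¹ = (y : G) ^ n := mul_inv_eq_one.1 (congrArg Subtype.val hy)
  refine ⟨(y : G) ^ m, Z.pow_mem y.2.1 m, orderOf_eq_prime hm2 hm1, ?_⟩
  rw [← conj_pow, h1, ← pow_mul, ← pow_mul, mul_comm]

theorem relIndex_eq_of_eigen [Finite G] [hp : Fact p.Prime] (hl : ∀ x : (ZMod p)ˣ, x ∈ zpowers l)
    {H : Subgroup G} {c : G} (hc : orderOf c = p) (ht : t ∈ H)
    (he : t * c * t⁻¹ = c ^ (l : ZMod p).val) :
    (H ⊓ centralizer ((zpowers c : Subgroup G) : Set G)).relIndex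
      (H ⊓ normalizer ((zpowers c : Subgroup G) : Set G)) = p - 1 := by
  set C := zpowers c with hC
  let f : ↥(H ⊓ normalizer (C : Set G)) →* MulAut C :=
    C.normalizerMonoidHom.comp (inclusion inf_le_right)
  have hf : ∀ (g : ↥(H ⊓ normalizer (C : Set G))) (x : C), ((f g x : C) : G) = g * x * (g : G)⁻¹ :=
    fun _ _ => rfl
  have hker : f.ker = (H ⊓ centralizer (C : Set G)).subgroupOf (H ⊓ normalizer (C : Set G)) := by
    ext g
    rw [MonoidHom.mem_ker, mem_subgroupOf, mem_inf, mem_centralizer_iff]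
    constructor
    · intro h1
      refine ⟨g.2.1, fun x hx => ?_⟩
      have := hf g ⟨x, hx⟩
      rw [h1] at this
      exact eq_mul_inv_iff_mul_eq.1 this
    · intro h1
      ext x
      rw [hf, ← h1.2 x x.2]
      simp
  have hcard : Nat.card (MulAut C) = p - 1 := by
    rw [IsCyclic.card_mulAut, hC, Nat.card_zpowers, hc, Nat.totient_prime hp.out]
  have htN : t ∈ normalizer (C : Set G) := H72.mem_normalizer_of_conj_mem (by
    rintro _ ⟨k, rfl⟩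
    rw [← conj_zpow, he]
    exact zpow_mem (pow_mem (mem_zpowers c) _) k)
  rw [relIndex, ← hker, index_ker]
  refine Nat.dvd_antisymm (hcard ▸ card_subgroup_dvd_card _) ?_
  set n := Nat.card f.range with hn
  have h1 : f ⟨t, ht, htN⟩ ^ n = 1 :=
    congrArg Subtype.val (pow_card_eq_one' (x := (⟨_, ⟨⟨t, ht, htN⟩, rfl⟩⟩ : f.range)))
  have h2 : ∀ k : ℕ, t ^ k * c * (t ^ k)⁻¹ = c ^ (l : ZMod p).val ^ k := fun k => by
    induction k with
    | zero => simp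
    | succ k ih =>
      rw [pow_succ (l : ZMod p).val, pow_mul, ← ih, conj_pow, ← he, pow_succ]; group
  have h3 := hf (⟨t, ht, htN⟩ ^ n) ⟨c, mem_zpowers c⟩
  rw [map_pow, h1] at h3
  have h4 : c ^ 1 = c ^ (l : ZMod p).val ^ n := by rw [← h2, pow_one]; exact h3
  rw [pow_eq_pow_iff_modEq, hc, ← ZMod.natCast_eq_natCast_iff, Nat.cast_pow,
    ZMod.natCast_zmod_val, Nat.cast_one] at h4
  have h5 : l ^ n = 1 := Units.ext (by rw [Units.val_pow_eq_pow_val, ← h4]; rfl)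
  have h6 := orderOf_dvd_of_pow_eq_one h5
  rwa [orderOf_eq_card_of_forall_mem_zpowers hl, Nat.card_eq_fintype_card, ZMod.card_units] at h6

end

end Cfsg.Agent.H61
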