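import Cfsg.Agent.H61.FpWit
import Cfsg.Agent.H61.LLemma
import Cfsg.Agent.H61.KChief
import Cfsg.Agent.H69.FFSec

/-!
A quadratic element outside `O_p` of a minimal parabolic produces a two-dimensional section with a
torus element inside the maximal subgroup.
-/

set_option autoImplicit false

namespace Cfsg.Agent.H61

open Subgroup H72
open scoped commutatorElement

universe u

variable {G : Type u} [Group G] {p : ℕ} [Finite G] [hp : Fact p.Prime]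

/-- The L-lemma for one element, normalized to the maximal subgroup itself. -/
theorem MinPar.l_lemma_elt {K T M : Subgroup G} (h : MinPar p K T M) {a : G} (haT : a ∈ T)
    (haO : a ∉ pCoreOf p K) : ∃ k ∈ K, ∃ L Y : Subgroup G, L ≤ K ∧ k * a * k⁻¹ ∈ L ∧ Y ≤ L ∧
      IsPGroup p Y ∧ L ≤ normalizer (Y : Set G) ∧ (∀ l ∈ K, ¬ L ≤ H72.cj l M) ∧ k * a * k⁻¹ ∈ M ∧
      (∀ D, k * a * k⁻¹ ∈ D → Y ≤ D → D < L → D ≤ M) ∧
      ∀ g ∈ L, g * (k * a * k⁻¹) * g⁻¹ ∈ M → g ∈ M := by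
  obtain ⟨x, hx, k, hk, L, Y, h1, h2, h3, h4, h5, h6, h7, h8, h9⟩ :=
    h.l_lemma (A := zpowers a) (zpowers_le.2 haT) (fun h' => haO (h' (mem_zpowers a)))
  rw [cj_zpowers] at h2 h7 h8 h9
  have e : k⁻¹ * x * a * (k⁻¹ * x)⁻¹ = k⁻¹ * (x * a * x⁻¹) * k⁻¹⁻¹ := by group
  refine ⟨k⁻¹ * x, mul_mem (inv_mem hk) hx, H72.cj k⁻¹ L, H72.cj k⁻¹ Y, cj_le_of_mem (inv_mem hk) h1,
    e ▸ conj_mem_cj (h2 (mem_zpowers _)), cj_mono _ h3, IsPGroup_cj _ h4,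
    cj_normalizer k⁻¹ Y ▸ cj_mono _ h5, fun l hl h' => h6 (k * l) (mul_mem hk hl) ?_, ?_,
    fun D d1 d2 d3 => ?_, fun g hg hgM => ?_⟩
  · rwa [cj_le_iff, inv_inv, ← cj_mul] at h'
  · have := h7 (mem_sup_left (mem_zpowers _))
    rw [mem_cj] at this
    rwa [e, inv_inv]
  · rw [← cj_le_cj_iff k]
    refine h8 _ (sup_le (zpowers_le.2 ?_) ?_) ?_
    · rw [mem_cj]
      rwa [e, inv_inv] at d1
    · rwa [cj_le_iff, inv_inv] at d2
    · rwa [← cj_lt_cj_iff k, cj_cj_inv] at d3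
  · rw [mem_cj, inv_inv] at hg
    have := h9 _ hg (by
      rw [cj_zpowers, zpowers_le, mem_cj]
      convert hgM using 1
      group)
    rw [mem_cj] at this
    convert this using 1
    group

omit [Finite G] hp in
theorem exists_pow_prime_mem {X Y : Subgroup G} (hY : IsPGroup p Y) (h : ¬ Y ≤ X) :
    ∃ y ∈ Y, y ∉ X ∧ y ^ p ∈ X := by
  obtain ⟨x, hx, hxX⟩ := SetLike.not_le_iff_exists.1 h
  obtain ⟨k, hk⟩ := hY ⟨x, hx⟩
  have hk' : x ^ p ^ k ∈ X := by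
    rw [show x ^ p ^ k = 1 from congrArg Subtype.val hk]; exact X.one_mem
  clear hk
  induction k with
  | zero => exact absurd (by simpa using hk') hxX
  | succ k ih =>
    by_cases h1 : x ^ p ^ k ∈ X
    · exact ih h1
    · exact ⟨_, Y.pow_mem hx _, h1, by rwa [← pow_mul, ← pow_succ]⟩

/-- The elementary abelian case. -/
theorem MinPar.exists_wit_elem (hp2 : p ≠ 2) {K T M : Subgroup G} (h : MinPar p K T M)
    {X B Y : Subgroup G} (hKB : K ≤ normalizer (B : Set G)) (hKX : K ≤ normalizer (X : Set G))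
    (hBB : ⁅B, B⁆ ≤ X) (hBp : ∀ x ∈ B, x ^ p ∈ X) (hXY : X ≤ Y) (hYB : Y ≤ B)
    (hMY : M ≤ normalizer (Y : Set G)) (hKY : ¬ K ≤ normalizer (Y : Set G)) {a : G} (haT : a ∈ T)
    (haO : a ∉ pCoreOf p K) (hq : ∀ x ∈ B, ⁅a, ⁅a, x⁆⁆ ∈ X) (l : (ZMod p)ˣ) :
    ∃ B₀ ≤ B, ∃ (φ : G → Fin 2 → ZMod p) (a' t z : G), a' ∈ M ∧ t ∈ M ∧ z ∈ Y ∧
      Wit p l B₀ φ a' t z ∧ ∀ x ∈ X, x ∈ B₀ ∧ φ x = 0 := by
  obtain ⟨k, hk, L, R, hLK, haL, hRL, hRp, hLR, hLM, haM, hu, hg'⟩ := h.l_lemma_elt haT haO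
  set a' := k * a * k⁻¹ with ha'
  have hNM : K ⊓ normalizer (Y : Set G) ≤ M := h.normalizer_le (h.le.trans hMY) hKY
  have hpM : ∀ P : Subgroup G, IsPGroup p P → a' ∈ P → P ≤ L → P ⊔ R ≤ M := fun P hP h1 h2 => by
    refine hu _ (mem_sup_left h1) le_sup_right (lt_of_le_of_ne (sup_le h2 hRL) fun h3 => ?_)
    have h4 : IsPGroup p L := h3 ▸ isPGroup_sup_of_normalizes hP hRp (h2.trans hLR)
    obtain ⟨m, hm, h5⟩ := h.exists_le_cj h4 hLK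
    exact hLM m hm h5
  obtain ⟨g, hgL, hgM⟩ := SetLike.not_le_iff_exists.1 (cj_one M ▸ hLM 1 K.one_mem)
  set b := g * a' * g⁻¹ with hb
  have hbM : b ∉ M := fun h' => hgM (hg' g hgL h')
  have hbL : b ∈ L := mul_mem (mul_mem hgL haL) (inv_mem hgL)
  have hqc : ∀ m ∈ K, ∀ y, (∀ x ∈ B, ⁅y, ⁅y, x⁆⁆ ∈ X) →
      ∀ x ∈ B, ⁅m * y * m⁻¹, ⁅m * y * m⁻¹, x⁆⁆ ∈ X := fun m hm y hy x hx => by
    have := conj_mem_of_mem_normalizer (hKX hm) (hy _ (conj_mem_of_mem_normalizer' (hKB hm) hx))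
    convert this using 1
    simp only [commutatorElement_def]; group
  have hqa := hqc k hk a hq
  have hqb := hqc g (hLK hgL) a' hqa
  have hap : IsPGroup p (zpowers a') := by
    rw [ha', ← cj_zpowers]
    exact IsPGroup_cj _ (h.syl.isPGroup.to_le (zpowers_le.2 haT))
  set Γ := closure ({a', b} : Set G) with hΓ
  have haΓ : a' ∈ Γ := subset_closure (by simp)
  have hbΓ : b ∈ Γ := subset_closure (by simp)
  have hΓL : Γ ≤ L := by
    rw [hΓ, closure_le]; rintro _ (rfl | rfl) <;> assumption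
  have hΓK := hΓL.trans hLK
  obtain ⟨@⟨A, acg, act, π, Ssurj, Smul, Sker, Sequiv⟩⟩ :=
    H69.exists_secMod (hΓK.trans hKB) (hΓK.trans hKX) hBB
  have hπ1 : π 1 = 0 := (Sker 1 B.one_mem).2 X.one_mem
  have hπinv : ∀ x ∈ B, π x⁻¹ = -π x := fun x hx => by
    have := Smul x⁻¹ (B.inv_mem hx) x hx
    rw [inv_mul_cancel, hπ1] at this
    exact eq_neg_of_add_eq_zero_left this.symm
  have hπpow : ∀ x ∈ B, ∀ n : ℕ, π (x ^ n) = n • π x := fun x hx n => by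
    induction n with
    | zero => rw [pow_zero, hπ1, zero_nsmul]
    | succ n ih => rw [pow_succ, Smul _ (B.pow_mem hx n) _ hx, ih, succ_nsmul]
  have inst : Module (ZMod p) A := AddCommGroup.zmodModule fun w => by
    obtain ⟨x, hx, rfl⟩ := Ssurj w
    rw [← hπpow x hx]
    exact (Sker _ (B.pow_mem hx p)).2 (hBp x hx)
  have : Finite A := Finite.of_surjective (fun x : B => π x) fun w => by
    obtain ⟨x, hx, rfl⟩ := Ssurj w
    exact ⟨⟨x, hx⟩, rfl⟩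
  let ρ : Γ →* Module.End (ZMod p) A :=
    { toFun := fun γ => (DistribSMul.toAddMonoidHom A γ).toZModLinearMap p
      map_one' := LinearMap.ext fun w => one_smul Γ w
      map_mul' := fun x y => LinearMap.ext fun w => mul_smul x y w }
  have hρ : ∀ (γ : Γ), ∀ x ∈ B, ρ γ (π x) = π (γ * x * (γ : G)⁻¹) := fun γ x hx =>
    (Sequiv γ x hx).symm
  have hcB : ∀ (γ : Γ), ∀ x ∈ B, γ * x * (γ : G)⁻¹ ∈ B := fun γ x hx =>
    conj_mem_of_mem_normalizer (hKB (hΓK γ.2)) hx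
  have hρ1 : ∀ (γ : Γ), ∀ x ∈ B, (ρ γ - 1) (π x) = π ⁅(γ : G), x⁆ := fun γ x hx => by
    rw [LinearMap.sub_apply, hρ γ x hx, commutatorElement_def, Smul _ (hcB γ x hx) _ (B.inv_mem hx),
      hπinv x hx, sub_eq_add_neg]
    rfl
  have hquad : ∀ γ : Γ, (∀ x ∈ B, ⁅(γ : G), ⁅(γ : G), x⁆⁆ ∈ X) → (ρ γ - 1) * (ρ γ - 1) = 0 :=
    fun γ hγ => LinearMap.ext fun w => by
      obtain ⟨x, hx, rfl⟩ := Ssurj w
      have h1 : ⁅(γ : G), x⁆ ∈ B := mul_mem (hcB γ x hx) (inv_mem hx)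
      rw [Module.End.mul_apply, hρ1 γ x hx, hρ1 γ _ h1]
      exact (Sker _ (mul_mem (hcB γ _ h1) (inv_mem h1))).2 (hγ x hx)
  let Z : AddSubgroup A :=
    { carrier := {w | ∃ y ∈ Y, π y = w}
      zero_mem' := ⟨1, Y.one_mem, hπ1⟩
      add_mem' := by
        rintro _ _ ⟨x, hx, rfl⟩ ⟨y, hy, rfl⟩
        exact ⟨x * y, mul_mem hx hy, Smul x (hYB hx) y (hYB hy)⟩
      neg_mem' := by
        rintro _ ⟨x, hx, rfl⟩
        exact ⟨x⁻¹, inv_mem hx, hπinv x (hYB hx)⟩ }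
  have hgen : closure ({⟨a', haΓ⟩, ⟨b, hbΓ⟩} : Set Γ) = ⊤ := by
    apply Subgroup.map_injective Γ.subtype_injective
    rw [MonoidHom.map_closure, ← MonoidHom.range_eq_map, Subgroup.range_subtype, Set.image_pair]
    rfl
  have hap' : IsPGroup p (zpowers (⟨a', haΓ⟩ : Γ)) := by
    obtain ⟨n, hn⟩ := hap ⟨a', mem_zpowers _⟩
    exact isPGroup_zpowers_of_pow (k := n) (Subtype.ext (congrArg Subtype.val hn :))
  rcases la_core hp2 ρ hgen (hquad _ hqa) (hquad _ hqb)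
    hap' (AddSubgroup.toZModSubmodule p Z) (by
      rintro _ ⟨y, hy, rfl⟩
      exact ⟨_, conj_mem_of_mem_normalizer (hMY haM) hy, (hρ ⟨a', haΓ⟩ y (hYB hy)).symm⟩) l with
    h1 | ⟨U, φ, t, P, w, hP, haP, htP, ⟨z, hz, rfl⟩, hzU, hφz, hadd, hsurj, hφa, hφt⟩
  · exfalso
    obtain ⟨P, hP, haP⟩ := exists_isSylowIn_ge hap (zpowers_le.2 haΓ)
    refine hbM ((IsSylowIn_sup_pRes hP).ge.trans (sup_le ?_ ?_) hbΓ)
    · exact le_sup_left.trans (hpM P hP.isPGroup (haP (mem_zpowers _)) (hP.le.trans hΓL))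
    · rw [pRes_le_iff]
      intro x hx hxp
      refine hNM ⟨hΓK hx, mem_normalizer_of_conj_mem fun y hy => ?_⟩
      have h2 := h1 ⟨x, hx⟩ (by rwa [orderOf_mk]) _ ⟨y, hy, rfl⟩
      rw [← sub_eq_zero] at h2
      have h3 := hρ1 ⟨x, hx⟩ y (hYB hy)
      rw [LinearMap.sub_apply, Module.End.one_apply, h2] at h3
      have h4 := (Sker _ (mul_mem (hcB ⟨x, hx⟩ y (hYB hy)) (inv_mem (hYB hy)))).1 h3.symm
      simpa using mul_mem (hXY h4) hy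
  · have hPL : P.map Γ.subtype ≤ L := (map_subtype_le _).trans hΓL
    have haP' : a' ∈ P.map Γ.subtype := ⟨_, haP, rfl⟩
    have h1 := hpM _ (hP.map Γ.subtype) haP' hPL
    have htM : (t : G) ∈ M := by
      refine hu (L ⊓ normalizer ((P.map Γ.subtype ⊔ R : Subgroup G) : Set G))
        ⟨haL, le_normalizer (mem_sup_left haP')⟩ (le_inf hRL (le_sup_right.trans le_normalizer))
        (lt_of_le_of_ne inf_le_left fun h2 => hbM (h1 ?_)) ⟨hΓL t.2, ?_⟩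
      · exact conj_mem_of_mem_normalizer (inf_eq_left.1 h2 hgL) (mem_sup_left haP')
      · exact H72.le_normalizer_sup (A := zpowers (t : G))
          (zpowers_le.2 (le_normalizer_map Γ.subtype (mem_map_of_mem _ htP)))
          (zpowers_le.2 (hLR (hΓL t.2))) (mem_zpowers _)
    let B₀ : Subgroup G :=
      { carrier := {x | x ∈ B ∧ π x ∈ U}
        one_mem' := ⟨one_mem _, hπ1 ▸ zero_mem _⟩
        mul_mem' := fun {x y} hx hy => ⟨mul_mem hx.1 hy.1, by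
          rw [Smul x hx.1 y hy.1]; exact add_mem hx.2 hy.2⟩
        inv_mem' := fun {x} hx => ⟨inv_mem hx.1, by rw [hπinv x hx.1]; exact neg_mem hx.2⟩ }
    refine ⟨B₀, fun x hx => hx.1, fun x => φ (π x), a', t, z, haM, htM, hz,
      ⟨fun x hx y hy => ?_, fun c => ?_, fun x hx => ?_, fun x hx => ?_, ⟨hYB hz, hzU⟩, hφz⟩,
      fun x hx => ?_⟩
    · rw [Smul x hx.1 y hy.1, hadd _ hx.2 _ hy.2]
    · obtain ⟨w, hw, rfl⟩ := hsurj c
      obtain ⟨x, hx, rfl⟩ := Ssurj w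
      exact ⟨x, ⟨hx, hw⟩, rfl⟩
    · have h2 := hφa _ hx.2
      rw [hρ _ x hx.1] at h2
      exact ⟨⟨hcB ⟨a', haΓ⟩ x hx.1, h2.1⟩, h2.2⟩
    · have h2 := hφt _ hx.2
      rw [hρ _ x hx.1] at h2
      exact ⟨⟨hcB t x hx.1, h2.1⟩, h2.2⟩
    · have h2 := (Sker x (hYB (hXY hx))).2 hx
      refine ⟨⟨hYB (hXY hx), h2 ▸ zero_mem _⟩, ?_⟩
      have h3 := hadd 0 (zero_mem _) 0 (zero_mem _)
      rw [add_zero] at h3
      change φ (π x) = 0
      rw [h2]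
      exact left_eq_add.1 h3

theorem MinPar.exists_wit (hp2 : p ≠ 2) {K T M : Subgroup G} (h : MinPar p K T M)
    {X B Y : Subgroup G} (hB : IsPGroup p B) (hKB : K ≤ normalizer (B : Set G))
    (hKX : K ≤ normalizer (X : Set G)) (hBB : ⁅B, B⁆ ≤ X) (hXY : X ≤ Y) (hYB : Y ≤ B)
    (hMY : M ≤ normalizer (Y : Set G)) (hKY : ¬ K ≤ normalizer (Y : Set G)) {a : G} (haT : a ∈ T)
    (haO : a ∉ pCoreOf p K) (hq : ∀ x ∈ B, ⁅a, ⁅a, x⁆⁆ ∈ X) (l : (ZMod p)ˣ) :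
    ∃ B₀ ≤ B, ∃ (φ : G → Fin 2 → ZMod p) (a' t z : G), a' ∈ M ∧ t ∈ M ∧ z ∈ Y ∧
      Wit p l B₀ φ a' t z ∧ ∀ x ∈ X, x ∈ B₀ ∧ φ x = 0 := by
  obtain ⟨X₁, hX1, ⟨hX2, hX3⟩, hmax⟩ := (Set.toFinite {C : Subgroup G | C ≤ Y ∧
    K ≤ normalizer (C : Set G)}).exists_le_maximal (a := X) ⟨hXY, hKX⟩
  obtain ⟨@⟨A, acg, act, π, Ssurj, Smul, Sker, Sequiv⟩⟩ :=
    H69.exists_secMod hKB hX3 (hBB.trans hX1)
  have hπ1 : π 1 = 0 := (Sker 1 B.one_mem).2 X₁.one_mem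
  have hπpow : ∀ x ∈ B, ∀ n : ℕ, π (x ^ n) = n • π x := fun x hx n => by
    induction n with
    | zero => rw [pow_zero, hπ1, zero_nsmul]
    | succ n ih => rw [pow_succ, Smul _ (B.pow_mem hx n) _ hx, ih, succ_nsmul]
  let B₁ : Subgroup G :=
    { carrier := {x | x ∈ B ∧ x ^ p ∈ X₁}
      one_mem' := ⟨one_mem _, by rw [one_pow]; exact one_mem _⟩
      mul_mem' := fun {x y} hx hy => ⟨mul_mem hx.1 hy.1, by
        rw [← Sker _ (B.pow_mem (mul_mem hx.1 hy.1) p), hπpow _ (mul_mem hx.1 hy.1),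
          Smul x hx.1 y hy.1, nsmul_add, ← hπpow x hx.1, ← hπpow y hy.1,
          (Sker _ (B.pow_mem hx.1 p)).2 hx.2, (Sker _ (B.pow_mem hy.1 p)).2 hy.2, add_zero]⟩
      inv_mem' := fun {x} hx => ⟨inv_mem hx.1, by rw [inv_pow]; exact inv_mem hx.2⟩ }
  have hB1 : B₁ ≤ B := fun x hx => hx.1
  have hKB1 : K ≤ normalizer (B₁ : Set G) := fun k hk => mem_normalizer_of_conj_mem fun x hx =>
    ⟨conj_mem_of_mem_normalizer (hKB hk) hx.1, by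
      rw [conj_pow]; exact conj_mem_of_mem_normalizer (hX3 hk) hx.2⟩
  have hXB1 : X₁ ≤ B₁ := fun x hx => ⟨hYB (hX2 hx), pow_mem hx p⟩
  obtain ⟨B₀, h1, φ, a', t, z, h2, h3, h4, h5, h6⟩ := h.exists_wit_elem hp2 (Y := Y ⊓ B₁) hKB1 hX3
    ((commutator_mono hB1 hB1).trans (hBB.trans hX1)) (fun x hx => hx.2) (le_inf hX2 hXB1)
    inf_le_right (H72.le_normalizer_inf hMY (h.lt.le.trans hKB1)) (fun h' => by
      obtain ⟨y, hy, hy1, hy2⟩ := exists_pow_prime_mem (X := X₁) (hB.to_le hYB)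
        fun h2 => hKY (le_antisymm hX2 h2 ▸ hX3)
      exact hy1 (hmax (y := Y ⊓ B₁) ⟨inf_le_left, h'⟩ (le_inf hX2 hXB1) ⟨hy, hYB hy, hy2⟩))
    haT haO (fun x hx => hX1 (hq x hx.1)) l
  exact ⟨B₀, h1.trans hB1, φ, a', t, z, h2, h3, h4.1, h5, fun x hx => h6 x (hX1 hx)⟩

end Cfsg.Agent.H61
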