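import Cfsg.Agent.H60.QdQuad
import Cfsg.Agent.H21.QuadPair
import Cfsg.Agent.H72.SylowIn
import Mathlib.RepresentationTheory.Basic

/-!
Two quadratic generators on a module over the prime field: a subspace that is invariant under the
first generator is either centralized by all `p'`-elements or meets a two-dimensional section on
which a torus element normalizing a `p`-subgroup through the first generator acts diagonally.
-/

set_option autoImplicit false

namespace Cfsg.Agent.H61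

open Subgroup Matrix Polynomial
open scoped MatrixGroups

variable {p : ℕ}

/-- The diagonal matrix with entries `x`, `x⁻¹`. -/
def diagT {K : Type*} [CommRing K] (x : Kˣ) : SL(2, K) :=
  ⟨!![(x : K), 0; 0, ((x⁻¹ : Kˣ) : K)], by simp [det_fin_two]⟩

theorem coe_diagT {K : Type*} [CommRing K] (x : Kˣ) :
    (diagT x : Matrix (Fin 2) (Fin 2) K) = !![(x : K), 0; 0, ((x⁻¹ : Kˣ) : K)] := rfl

theorem diagT_mul_upperT {K : Type*} [CommRing K] (x : Kˣ) (s : K) :
    diagT x * H21.upperT s = H21.upperT ((x : K) * x * s) * diagT x := by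
  apply Subtype.ext
  change !![(x : K), 0; 0, ((x⁻¹ : Kˣ) : K)] * !![1, s; 0, 1] =
    !![1, (x : K) * x * s; 0, 1] * !![(x : K), 0; 0, ((x⁻¹ : Kˣ) : K)]
  have h : (x : K) * ((x⁻¹ : Kˣ) : K) = 1 := x.mul_inv
  ext i j
  fin_cases i <;> fin_cases j <;> simp
  linear_combination (-(x : K) * s) * h

theorem neg_one_eq_pow_five {F : Type*} [Field F] {i : F} (h : i ^ 2 = -1) (h3 : (3 : F) = 0) :
    (H21.upperT i * H21.lowerT (1 : F)) ^ 5 = -1 := by
  apply Subtype.ext
  have e1 : ((H21.upperT i * H21.lowerT (1 : F) : SL(2, F)) : Matrix (Fin 2) (Fin 2) F) =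
      !![1 + i, i; 1, 1] := by
    change !![1, i; 0, 1] * !![1, 0; 1, 1] = _
    ext a b
    fin_cases a <;> fin_cases b <;> simp
  have e2 : (!![1 + i, i; 1, 1] : Matrix (Fin 2) (Fin 2) F) * !![1 + i, i; 1, 1] =
      !![0, -i - 1; i - 1, 1 + i] := by
    ext a b
    fin_cases a <;> fin_cases b <;> simp
    · linear_combination h + i * h3
    · linear_combination h + i * h3
    · linear_combination h3
    · ring
  have e4 : (!![0, -i - 1; i - 1, 1 + i] : Matrix (Fin 2) (Fin 2) F) * !![0, -i - 1; i - 1, 1 + i] =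
      !![-1, i; 1, -1 - i] := by
    ext a b
    fin_cases a <;> fin_cases b <;> simp
    · linear_combination (-1) * h + h3
    · linear_combination (-1) * h - i * h3
    · linear_combination h - h3
    · linear_combination (1 + i) * h3
  change ((H21.upperT i * H21.lowerT (1 : F) : SL(2, F)) : Matrix (Fin 2) (Fin 2) F) ^ 5 = -1
  rw [e1, show 5 = 2 + 2 + 1 from rfl, pow_succ, pow_add, pow_two, e2, e4]
  ext a b
  fin_cases a <;> fin_cases b <;> simp

theorem units_zmod_three : ∀ l : (ZMod 3)ˣ, l = 1 ∨ l = -1 := by decide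

theorem diagT_mem [hp : Fact p.Prime] (hp2 : p ≠ 2) {F : Type*} [Field F] [Finite F]
    [Algebra (ZMod p) F] {lam : F} (hlam : lam ≠ 0) (hgen : Subfield.closure ({lam} : Set F) = ⊤)
    {D : Subgroup SL(2, F)} (h1 : H21.upperT lam ∈ D) (h2 : H21.lowerT 1 ∈ D) (l : (ZMod p)ˣ) :
    diagT (Units.map (algebraMap (ZMod p) F).toMonoidHom l) ∈ D := by
  have := Fintype.ofFinite F
  have hι : Function.Injective (algebraMap (ZMod p) F) := (algebraMap (ZMod p) F).injective
  have hcast : ∀ n : ℕ, (n : F) = 0 → p ∣ n := fun n h => by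
    have h3 : ((n : ℕ) : ZMod p) = 0 := hι (by rw [map_natCast, map_zero]; exact h)
    rwa [ZMod.natCast_eq_zero_iff] at h3
  have h2' : (2 : F) ≠ 0 := fun h =>
    hp2 ((Nat.prime_dvd_prime_iff_eq hp.out Nat.prime_two).mp (hcast 2 (by exact_mod_cast h)))
  rcases S0801.result h2' lam hlam hgen with ⟨h, -⟩ | ⟨h9, h, -⟩
  · have hle : closure {g : SL(2, F) | (g : Matrix (Fin 2) (Fin 2) F) = !![1, 0; 1, 1] ∨
        (g : Matrix (Fin 2) (Fin 2) F) = !![1, lam; 0, 1]} ≤ D := by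
      rw [closure_le]
      rintro g (hg | hg)
      · exact (Subtype.ext hg : g = H21.lowerT 1) ▸ h2
      · exact (Subtype.ext hg : g = H21.upperT lam) ▸ h1
    rw [h] at hle
    exact hle (mem_top _)
  · have h9' : ((9 : ℕ) : F) = 0 := h9 ▸ FiniteField.cast_card_eq_zero F
    have h3 : (3 : F) = 0 := by
      have : (3 : F) ^ 2 = 0 := by rw [← h9']; norm_num
      exact pow_eq_zero_iff (two_ne_zero) |>.1 this
    obtain rfl : p = 3 :=
      (Nat.prime_dvd_prime_iff_eq hp.out Nat.prime_three).mp (hcast 3 (by exact_mod_cast h3))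
    rcases units_zmod_three l with rfl | rfl
    · convert D.one_mem
      apply Subtype.ext
      rw [map_one, coe_diagT]
      ext a b
      fin_cases a <;> fin_cases b <;> simp
    · convert D.pow_mem (D.mul_mem h1 h2) 5
      rw [neg_one_eq_pow_five h h3]
      apply Subtype.ext
      rw [coe_diagT]
      ext a b
      fin_cases a <;> fin_cases b <;> simp

theorem isPGroup_zpowers_of_pow {G : Type*} [Group G] {x : G} {k : ℕ} (hx : x ^ p ^ k = 1) :
    IsPGroup p (zpowers x) := by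
  rintro ⟨_, n, rfl⟩
  refine ⟨k, Subtype.ext ?_⟩
  change (x ^ n) ^ p ^ k = 1
  rw [← zpow_natCast, ← _root_.zpow_mul, mul_comm, _root_.zpow_mul, zpow_natCast, hx, _root_.one_zpow]

/-- An element normalizing `⟨a⟩` modulo the kernel of `f` can be adjusted to normalize a
`p`-subgroup through `a`. -/
theorem exists_frattini_adjust {Γ Γ' : Type*} [Group Γ] [Finite Γ] [Group Γ'] [Fact p.Prime]
    (f : Γ →* Γ') {a t₀ : Γ} (ha : IsPGroup p (zpowers a))
    (ht : ∀ x ∈ zpowers (f a), f t₀ * x * (f t₀)⁻¹ ∈ zpowers (f a)) :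
    ∃ (P : Subgroup Γ) (t : Γ), IsPGroup p P ∧ a ∈ P ∧ t ∈ normalizer (P : Set Γ) ∧ f t = f t₀ := by
  have h1 : t₀ ∈ normalizer (((zpowers (f a)).comap f : Subgroup Γ) : Set Γ) :=
    H72.mem_normalizer_of_conj_mem fun x hx => by
      rw [mem_comap, map_mul, map_mul, map_inv]
      exact ht _ hx
  obtain ⟨P, hP, haP⟩ := H72.exists_isSylowIn_ge ha
    (H := (zpowers (f a)).comap f) (zpowers_le.2 (mem_zpowers _))
  obtain ⟨e, he, x, hx, rfl⟩ := hP.frattini (zpowers_le.2 h1) (mem_zpowers t₀)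
  obtain ⟨i, hi⟩ := mem_zpowers_iff.1 (mem_comap.1 he)
  refine ⟨P, a ^ i * x, hP.isPGroup, haP (mem_zpowers a),
    mul_mem (le_normalizer (haP (zpow_mem_zpowers a i))) hx, ?_⟩
  rw [map_mul, map_mul, map_zpow, hi]

section LA

variable [hp : Fact p.Prime] {W : Type*} [AddCommGroup W] [Module (ZMod p) W]

theorem commute_gamma_left {α β : Module.End (ZMod p) W} (ha : α * α = 0) :
    Commute α (α * β + β * α) := by
  change α * _ = _ * α
  rw [mul_add, add_mul, ← mul_assoc, ha, mul_assoc β, ha, mul_assoc]; simp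

theorem commute_gamma_right {α β : Module.End (ZMod p) W} (hb : β * β = 0) :
    Commute β (α * β + β * α) := by
  rw [add_comm]; exact commute_gamma_left hb

theorem apply_aeval_of_commute {γ z : Module.End (ZMod p) W} (hγ : Commute γ z) (q : (ZMod p)[X])
    (w : W) : γ (aeval z q w) = aeval z q (γ w) := by
  have : Commute γ (aeval z q) := by
    induction q using Polynomial.induction_on' with
    | add q r hq hr => rw [map_add]; exact hq.add_right hr
    | monomial n c =>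
      rw [aeval_monomial]
      exact (Algebra.commute_algebraMap_right c γ).mul_right (hγ.pow_right n)
  rw [← Module.End.mul_apply, this.eq, Module.End.mul_apply]

theorem exists_theta {α β : Module.End (ZMod p) W} (ha : α * α = 0) (hb : β * β = 0)
    {f : (ZMod p)[X]} [Fact (Irreducible f)] (hlam0 : AdjoinRoot.root f ≠ 0) {v : W} (hv : v ≠ 0)
    (hαv : α v = 0) (hfv : aeval (α * β + β * α) f v = 0) :
    ∃ θ : (Fin 2 → AdjoinRoot f) → W, (∀ c d, θ (c + d) = θ c + θ d) ∧ (∀ c, θ c = 0 → c = 0) ∧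
      θ ![1, 0] = v ∧ (∀ c, θ c + α (θ c) = θ ![c 0 + AdjoinRoot.root f * c 1, c 1]) ∧
      ∀ c, θ c + β (θ c) = θ ![c 0, c 0 + c 1] := by
  set z := α * β + β * α with hz
  have hzα : Commute α z := commute_gamma_left ha
  set lam := AdjoinRoot.root f with hlam
  obtain ⟨ev, hev⟩ : ∃ ev : AdjoinRoot f → W, ∀ q, ev (AdjoinRoot.mk f q) = aeval z q v := by
    refine ⟨fun c => aeval z (Function.surjInv AdjoinRoot.mk_surjective c) v, fun q => ?_⟩
    obtain ⟨r, hr⟩ := AdjoinRoot.mk_eq_mk.mp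
      (Function.surjInv_eq AdjoinRoot.mk_surjective (AdjoinRoot.mk f q))
    rw [sub_eq_iff_eq_add] at hr
    change aeval z _ v = _
    rw [hr, map_add, mul_comm, map_mul, LinearMap.add_apply, Module.End.mul_apply, hfv, map_zero,
      zero_add]
  have ev_add : ∀ c d, ev (c + d) = ev c + ev d := fun c d => by
    obtain ⟨q, rfl⟩ := AdjoinRoot.mk_surjective c
    obtain ⟨r, rfl⟩ := AdjoinRoot.mk_surjective d
    rw [← map_add, hev, hev, hev, map_add, LinearMap.add_apply]
  have ev_α : ∀ c, α (ev c) = 0 := fun c => by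
    obtain ⟨q, rfl⟩ := AdjoinRoot.mk_surjective c
    rw [hev, apply_aeval_of_commute hzα, hαv, map_zero]
  have ev_z : ∀ c, α (β (ev c)) = ev (lam * c) := fun c => by
    have h1 : z (ev c) = α (β (ev c)) := by
      rw [hz, LinearMap.add_apply, Module.End.mul_apply, Module.End.mul_apply, ev_α, map_zero,
        add_zero]
    obtain ⟨q, rfl⟩ := AdjoinRoot.mk_surjective c
    rw [← h1, hlam, ← AdjoinRoot.mk_X, ← map_mul, hev, hev, map_mul, aeval_X, Module.End.mul_apply]
  have ev_one : ev 1 = v := by rw [← map_one (AdjoinRoot.mk f), hev, map_one]; rfl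
  have ev_inj : ∀ c, ev c = 0 → c = 0 := fun c hc => by
    by_contra h
    obtain ⟨r, hr⟩ := AdjoinRoot.mk_surjective c⁻¹
    obtain ⟨q, rfl⟩ := AdjoinRoot.mk_surjective c
    have h1 := hev (r * q)
    rw [map_mul, hr, inv_mul_cancel₀ h, map_mul, Module.End.mul_apply, ← hev q, hc, map_zero,
      ev_one] at h1
    exact hv h1
  have h3 : ev 0 = 0 := by rw [← map_zero (AdjoinRoot.mk f), hev]; simp
  refine ⟨fun c => ev (c 0) + β (ev (c 1)), fun c d => ?_, fun c hc => ?_, ?_, fun c => ?_,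
    fun c => ?_⟩
  · beta_reduce
    rw [Pi.add_apply, Pi.add_apply, ev_add, ev_add, map_add]; abel
  · have h1 := congrArg α hc
    rw [map_add, ev_α, ev_z, zero_add, map_zero] at h1
    have h2 : c 1 = 0 := (mul_eq_zero.mp (ev_inj _ h1)).resolve_left hlam0
    have hc' : ev (c 0) + β (ev (c 1)) = 0 := hc
    rw [h2, h3, map_zero, add_zero] at hc'
    have h4 := ev_inj _ hc'
    ext i
    fin_cases i
    · exact h4
    · exact h2
  · change ev 1 + β (ev 0) = v
    rw [h3, map_zero, add_zero, ev_one]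
  · change ev (c 0) + β (ev (c 1)) + α (ev (c 0) + β (ev (c 1))) =
      ev (c 0 + lam * c 1) + β (ev (c 1))
    rw [map_add, ev_α, ev_z, ev_add]; abel
  · change ev (c 0) + β (ev (c 1)) + β (ev (c 0) + β (ev (c 1))) = ev (c 0) + β (ev (c 0 + c 1))
    rw [map_add, ev_add, map_add, ← Module.End.mul_apply β β, hb]
    simp only [LinearMap.zero_apply]; abel

variable {Γ : Type*} [Group Γ]

/-- pairs `(g, M)` such that `g` induces `M` on the image of `θ` -/
def repPairs {F : Type*} [CommRing F] (ρ : Γ →* Module.End (ZMod p) W) (θ : (Fin 2 → F) → W) :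
    Subgroup (Γ × SL(2, F)) where
  carrier := {x | ∀ c, ρ x.1 (θ c) = θ (x.2.1 *ᵥ c)}
  one_mem' := by intro c; simp
  mul_mem' := by
    intro x y hx hy c
    change ρ (x.1 * y.1) (θ c) = θ ((x.2.1 * y.2.1) *ᵥ c)
    rw [map_mul, Module.End.mul_apply, hy c, hx, mulVec_mulVec]
  inv_mem' := by
    intro x hx c
    have h1 := hx ((x.2⁻¹).1 *ᵥ c)
    rw [mulVec_mulVec, ← Matrix.SpecialLinearGroup.coe_mul, mul_inv_cancel,
      Matrix.SpecialLinearGroup.coe_one, one_mulVec] at h1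
    change ρ x.1⁻¹ (θ c) = θ ((x.2⁻¹).1 *ᵥ c)
    rw [← h1, ← Module.End.mul_apply, ← map_mul, inv_mul_cancel, map_one, Module.End.one_apply]

theorem la_simple [Finite Γ] (hp2 : p ≠ 2) (ρ : Γ →* Module.End (ZMod p) W) {a b : Γ}
    (ha : (ρ a - 1) * (ρ a - 1) = 0) (hb : (ρ b - 1) * (ρ b - 1) = 0)
    (hap : IsPGroup p (zpowers a)) {f : (ZMod p)[X]} (hf : Irreducible f) (hXf : ¬ X ∣ f) {v : W}
    (hv : v ≠ 0) (hαv : (ρ a - 1) v = 0)
    (hfv : aeval ((ρ a - 1) * (ρ b - 1) + (ρ b - 1) * (ρ a - 1)) f v = 0) (l : (ZMod p)ˣ) :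
    ∃ (θ : (Fin 2 → ZMod p) → W) (t : Γ) (P : Subgroup Γ), IsPGroup p P ∧ a ∈ P ∧
      t ∈ normalizer (P : Set Γ) ∧ (∀ c d, θ (c + d) = θ c + θ d) ∧ (∀ c, θ c = 0 → c = 0) ∧
      θ ![1, 0] = v ∧ (∀ c, ρ a (θ c) = θ ![c 0 + c 1, c 1]) ∧
      ∀ c, ρ t (θ c) = θ ![(l : ZMod p) * c 0, ((l⁻¹ : (ZMod p)ˣ) : ZMod p) * c 1] := by
  have : Fact (Irreducible f) := ⟨hf⟩
  have : Module.Finite (ZMod p) (AdjoinRoot f) := (AdjoinRoot.powerBasis hf.ne_zero).finite
  have : Finite (AdjoinRoot f) := Module.finite_of_finite (ZMod p)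
  set lam := AdjoinRoot.root f with hlam
  have hlam0 : lam ≠ 0 := by
    intro h
    rw [hlam, ← AdjoinRoot.mk_X, AdjoinRoot.mk_eq_zero] at h
    exact hXf (hf.associated_of_dvd irreducible_X h).symm.dvd
  have hgen : Subfield.closure ({lam} : Set (AdjoinRoot f)) = ⊤ := by
    rw [eq_top_iff]
    rintro c -
    obtain ⟨q, rfl⟩ := AdjoinRoot.mk_surjective c
    induction q using Polynomial.induction_on' with
    | add q r hq hr => rw [map_add]; exact add_mem hq hr
    | monomial n c =>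
      rw [← C_mul_X_pow_eq_monomial, map_mul, map_pow, AdjoinRoot.mk_X]
      refine mul_mem ?_ (pow_mem (Subfield.subset_closure (Set.mem_singleton _)) n)
      rw [← ZMod.natCast_zmod_val c, map_natCast, map_natCast]
      exact natCast_mem _ _
  obtain ⟨θ, hadd, hinj, h10, hθa, hθb⟩ := exists_theta ha hb hlam0 hv hαv hfv
  have hρ : ∀ g w, ρ g w = w + (ρ g - 1) w := fun g w => by simp
  have haS : (a, H21.upperT lam) ∈ repPairs ρ θ := fun c => by
    rw [hρ, hθa]; congr 1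
    change _ = !![1, lam; 0, 1] *ᵥ c
    ext i
    fin_cases i <;> simp [mulVec, dotProduct, Fin.sum_univ_two, hlam]
  have hbS : (b, H21.lowerT (1 : AdjoinRoot f)) ∈ repPairs ρ θ := fun c => by
    rw [hρ, hθb]; congr 1
    change _ = !![1, 0; 1, 1] *ᵥ c
    ext i
    fin_cases i <;> simp [mulVec, dotProduct, Fin.sum_univ_two]
  set ι := algebraMap (ZMod p) (AdjoinRoot f) with hι
  set x : (AdjoinRoot f)ˣ := Units.map ι.toMonoidHom l with hx
  obtain ⟨⟨t₀, D⟩, ht₀, hD⟩ : diagT x ∈ (repPairs ρ θ).map (MonoidHom.snd _ _) :=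
    diagT_mem hp2 hlam0 hgen (mem_map_of_mem (MonoidHom.snd _ _) haS)
      (mem_map_of_mem (MonoidHom.snd _ _) hbS) l
  obtain rfl : D = diagT x := hD
  have : Finite SL(2, AdjoinRoot f) := Finite.of_injective _ Subtype.val_injective
  have hpF : ((p : ℕ) : AdjoinRoot f) = 0 := by rw [← map_natCast ι, ZMod.natCast_self, map_zero]
  obtain ⟨k, hk⟩ := hap ⟨a, mem_zpowers a⟩
  have hk' : a ^ p ^ k = 1 := congrArg Subtype.val hk
  obtain ⟨P, t, hP, haP, htP, ht⟩ := exists_frattini_adjust (p := p)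
    ((MonoidHom.snd _ _).comp (repPairs ρ θ).subtype) (a := ⟨_, haS⟩) (t₀ := ⟨_, ht₀⟩)
    (isPGroup_zpowers_of_pow (k := k + 1) (Subtype.ext (Prod.ext
      (by change a ^ p ^ (k + 1) = 1; rw [pow_succ, pow_mul, hk', one_pow])
      (by
        change H21.upperT lam ^ p ^ (k + 1) = 1
        rw [H21.upperT_pow, pow_succ, Nat.cast_mul, hpF, mul_zero, zero_mul]
        apply Subtype.ext
        rw [H21.coe_upperT]
        ext i j
        fin_cases i <;> fin_cases j <;> simp))))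
    (by
      rintro _ ⟨n, rfl⟩
      change diagT x * H21.upperT lam ^ n * (diagT x)⁻¹ ∈ zpowers (H21.upperT lam)
      rw [← conj_zpow, diagT_mul_upperT, mul_inv_cancel_right]
      refine zpow_mem ?_ n
      have : (x : AdjoinRoot f) * x = (((l : ZMod p) * l).val : ℕ) := by
        rw [← map_natCast ι, ZMod.natCast_zmod_val, map_mul]; rfl
      rw [this, ← H21.upperT_pow]
      exact pow_mem (mem_zpowers _) _)
  let j : repPairs ρ θ →* Γ := (MonoidHom.fst _ _).comp (repPairs ρ θ).subtype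
  have ht' : t.1.2 = diagT x := ht
  have hιi : Function.Injective ι := ι.injective
  refine ⟨fun c => θ ![ι (c 0), ι (c 1) * lam⁻¹], j t, P.map j, hP.map j, ⟨_, haP, rfl⟩,
    le_normalizer_map j (mem_map_of_mem j htP), fun c d => ?_, fun c hc => ?_, ?_, fun c => ?_,
    fun c => ?_⟩
  · beta_reduce
    rw [← hadd]; congr 1
    ext i
    fin_cases i <;> simp [add_mul]
  · have h1 := hinj _ hc
    have h2 : ι (c 0) = 0 := congrFun h1 0
    have h3 : ι (c 1) * lam⁻¹ = 0 := congrFun h1 1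
    have h4 : ι (c 1) = 0 := (mul_eq_zero.1 h3).resolve_right (inv_ne_zero hlam0)
    ext i
    fin_cases i
    · exact hιi (h2.trans (map_zero _).symm)
    · exact hιi (h4.trans (map_zero _).symm)
  · beta_reduce
    rw [← h10]; congr 1
    ext i
    fin_cases i <;> simp
  · beta_reduce
    rw [hρ, hθa]; congr 1
    ext i
    fin_cases i
    · change ι (c 0) + lam * (ι (c 1) * lam⁻¹) = ι (c 0 + c 1)
      rw [map_add, mul_left_comm, mul_inv_cancel₀ hlam0, mul_one]
    · rfl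
  · refine (t.2 _).trans ?_
    rw [ht', coe_diagT]
    congr 1
    ext i
    fin_cases i
    · change ∑ j, ![(x : AdjoinRoot f), 0] j * ![ι (c 0), ι (c 1) * lam⁻¹] j = ι (l * c 0)
      rw [Fin.sum_univ_two, map_mul]
      change ι l * ι (c 0) + 0 * _ = _
      rw [zero_mul, add_zero]
    · change ∑ j, ![0, ((x⁻¹ : (AdjoinRoot f)ˣ) : AdjoinRoot f)] j * ![ι (c 0), ι (c 1) * lam⁻¹] j =
        ι (((l⁻¹ : (ZMod p)ˣ) : ZMod p) * c 1) * lam⁻¹
      rw [Fin.sum_univ_two, map_mul]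
      change 0 * _ + ι ((l⁻¹ : (ZMod p)ˣ) : ZMod p) * (ι (c 1) * lam⁻¹) = _
      rw [zero_mul, zero_add, mul_assoc]

theorem invariant_of_generators (ρ : Γ →* Module.End (ZMod p) W) {a b : Γ}
    (hab : closure {a, b} = ⊤) (ha : (ρ a - 1) * (ρ a - 1) = 0) (hb : (ρ b - 1) * (ρ b - 1) = 0)
    {U : Submodule (ZMod p) W} (h1 : ∀ x ∈ U, (ρ a - 1) x ∈ U) (h2 : ∀ x ∈ U, (ρ b - 1) x ∈ U)
    (g : Γ) : U ≤ U.comap (ρ g) := by
  have hρ : ∀ g w, ρ g w = w + (ρ g - 1) w := fun g w => by simp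
  have hg : g ∈ closure {a, b} := hab ▸ mem_top g
  induction hg using closure_induction'' with
  | mem y hy =>
    intro x hx
    rw [Submodule.mem_comap, hρ]
    rcases hy with rfl | rfl
    · exact add_mem hx (h1 x hx)
    · exact add_mem hx (h2 x hx)
  | inv_mem y hy =>
    intro x hx
    rw [Submodule.mem_comap, hρ]
    rcases hy with rfl | rfl
    · rw [H21.map_inv_eq_of_sq_zero ρ ha, LinearMap.neg_apply]
      exact add_mem hx (neg_mem (h1 x hx))
    · rw [H21.map_inv_eq_of_sq_zero ρ hb, LinearMap.neg_apply]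
      exact add_mem hx (neg_mem (h2 x hx))
  | one => intro x hx; simpa using hx
  | mul g k _ _ hg hk =>
    intro x hx
    rw [Submodule.mem_comap, map_mul, Module.End.mul_apply]
    exact hg (hk hx)

/-- The vectors killed by a power of an endomorphism. -/
def nilPart (δ : Module.End (ZMod p) W) : Submodule (ZMod p) W where
  carrier := {w | ∃ n : ℕ, (δ ^ n) w = 0}
  zero_mem' := ⟨0, map_zero _⟩
  add_mem' := by
    rintro x y ⟨m, hm⟩ ⟨n, hn⟩
    refine ⟨m + n, ?_⟩
    rw [map_add]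
    nth_rewrite 1 [add_comm m n]
    rw [pow_add, pow_add, Module.End.mul_apply, Module.End.mul_apply, hm, hn, map_zero, map_zero,
      add_zero]
  smul_mem' := by
    rintro c x ⟨m, hm⟩
    exact ⟨m, by rw [map_smul, hm, smul_zero]⟩

theorem nilPart_apply {δ γ : Module.End (ZMod p) W} (h : Commute γ δ) {x : W} (hx : x ∈ nilPart δ) :
    γ x ∈ nilPart δ := by
  obtain ⟨n, hn⟩ := hx
  exact ⟨n, by rw [← Module.End.mul_apply, ← (h.pow_right n).eq, Module.End.mul_apply, hn, map_zero]⟩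

theorem fix_of_mem_nilPart [Finite W] (ρ : Γ →* Module.End (ZMod p) W) {a b : Γ}
    (hab : closure {a, b} = ⊤) (ha : (ρ a - 1) * (ρ a - 1) = 0) (hb : (ρ b - 1) * (ρ b - 1) = 0)
    {h : Γ} (hh : (orderOf h).Coprime p) {z : W}
    (hz : z ∈ nilPart ((ρ a - 1) * (ρ b - 1) + (ρ b - 1) * (ρ a - 1))) : ρ h z = z := by
  set δ := (ρ a - 1) * (ρ b - 1) + (ρ b - 1) * (ρ a - 1) with hδ
  have hinv := invariant_of_generators ρ hab ha hb (U := nilPart δ)
    (fun x hx => nilPart_apply (commute_gamma_left ha) hx)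
    (fun x hx => nilPart_apply (commute_gamma_right hb) hx)
  let σ : Γ →* Module.End (ZMod p) (nilPart δ) := Representation.subrepresentation ρ _ hinv
  have hσ : ∀ g (x : nilPart δ), ((σ g x : nilPart δ) : W) = ρ g x := fun _ _ => rfl
  have hσ1 : ∀ g (x : nilPart δ), (((σ g - 1) x : nilPart δ) : W) = (ρ g - 1) x := fun _ _ => rfl
  have hq : ∀ g, (ρ g - 1) * (ρ g - 1) = 0 → (σ g - 1) * (σ g - 1) = 0 := fun g hg => by
    ext x
    rw [Module.End.mul_apply, hσ1, hσ1, ← Module.End.mul_apply, hg]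
    rfl
  set δ' := (σ a - 1) * (σ b - 1) + (σ b - 1) * (σ a - 1) with hδ'
  have hδ1 : ∀ x : nilPart δ, ((δ' x : nilPart δ) : W) = δ x := fun _ => rfl
  have hδn : ∀ (n : ℕ) (x : nilPart δ), (((δ' ^ n) x : nilPart δ) : W) = (δ ^ n) x := by
    intro n
    induction n with
    | zero => exact fun _ => rfl
    | succ n ih => intro x; rw [pow_succ', pow_succ', Module.End.mul_apply, hδ1, ih]; rfl
  have hnil : IsNilpotent δ' := by
    rw [Module.End.isNilpotent_iff_of_finite]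
    rintro ⟨x, n, hn⟩
    exact ⟨n, Subtype.ext (by rw [hδn]; exact hn)⟩
  obtain ⟨N, hN⟩ := H21.exists_pow_sub_one_eq_zero σ hab (hq a ha) (hq b hb) hnil
  by_cases hV0 : Nontrivial (nilPart δ)
  · have : CharP (Module.End (ZMod p) (nilPart δ)) p :=
      charP_of_injective_algebraMap (algebraMap (ZMod p) _).injective p
    have h1 := H21.pow_prime_pow_eq_one_of_sub_one_pow (p := p) (hN h)
    obtain ⟨m, hm⟩ := exists_pow_eq_self_of_coprime (Nat.Coprime.pow_left N hh.symm)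
    have h2 : σ h = 1 := by rw [← hm, map_pow, map_pow, h1, one_pow]
    rw [← hσ h ⟨z, hz⟩, h2]
    rfl
  · rw [not_nontrivial_iff_subsingleton] at hV0
    have : z = 0 := congrArg Subtype.val (Subsingleton.elim (⟨z, hz⟩ : nilPart δ) 0)
    rw [this, map_zero]

theorem la_core [Finite Γ] [Finite W] (hp2 : p ≠ 2) (ρ : Γ →* Module.End (ZMod p) W) {a b : Γ}
    (hab : closure {a, b} = ⊤) (ha : (ρ a - 1) * (ρ a - 1) = 0) (hb : (ρ b - 1) * (ρ b - 1) = 0)
    (hap : IsPGroup p (zpowers a)) (Z : Submodule (ZMod p) W) (hZa : ∀ z ∈ Z, ρ a z ∈ Z)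
    (l : (ZMod p)ˣ) :
    (∀ h : Γ, (orderOf h).Coprime p → ∀ z ∈ Z, ρ h z = z) ∨
      ∃ (U : AddSubgroup W) (φ : W → Fin 2 → ZMod p) (t : Γ) (P : Subgroup Γ) (z : W),
        IsPGroup p P ∧ a ∈ P ∧ t ∈ normalizer (P : Set Γ) ∧ z ∈ Z ∧ z ∈ U ∧ φ z = ![1, 0] ∧
        (∀ x ∈ U, ∀ y ∈ U, φ (x + y) = φ x + φ y) ∧ (∀ c, ∃ x ∈ U, φ x = c) ∧
        (∀ x ∈ U, ρ a x ∈ U ∧ φ (ρ a x) = ![φ x 0 + φ x 1, φ x 1]) ∧
        ∀ x ∈ U, ρ t x ∈ U ∧
          φ (ρ t x) = ![(l : ZMod p) * φ x 0, ((l⁻¹ : (ZMod p)ˣ) : ZMod p) * φ x 1] := by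
  set δ := (ρ a - 1) * (ρ b - 1) + (ρ b - 1) * (ρ a - 1) with hδ
  by_cases hZ : Z ≤ nilPart δ
  · exact Or.inl fun h hh z hz => fix_of_mem_nilPart ρ hab ha hb hh (hZ hz)
  right
  obtain ⟨z, hzZ, hz0, hαz⟩ : ∃ z ∈ Z, z ∉ nilPart δ ∧ (ρ a - 1) z ∈ nilPart δ := by
    obtain ⟨z, hz, hz0⟩ := SetLike.not_le_iff_exists.1 hZ
    by_cases h : (ρ a - 1) z ∈ nilPart δ
    · exact ⟨z, hz, hz0, h⟩
    · refine ⟨_, sub_mem (hZa z hz) hz, h, ?_⟩
      change (ρ a - 1) ((ρ a - 1) z) ∈ _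
      rw [← Module.End.mul_apply, ha]
      exact zero_mem _
  have : Finite (Submodule (ZMod p) W) := Finite.of_injective _ SetLike.coe_injective
  obtain ⟨U, -, ⟨hU0, hzU, hUinv⟩, hmax⟩ := (Set.toFinite {U : Submodule (ZMod p) W |
      nilPart δ ≤ U ∧ z ∉ U ∧ ∀ g, U ≤ U.comap (ρ g)}).exists_le_maximal (a := nilPart δ)
    ⟨le_rfl, hz0, invariant_of_generators ρ hab ha hb
      (fun x hx => nilPart_apply (commute_gamma_left ha) hx)
      (fun x hx => nilPart_apply (commute_gamma_right hb) hx)⟩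
  let σ : Γ →* Module.End (ZMod p) (W ⧸ U) := Representation.quotient ρ U hUinv
  have hσ : ∀ g x, σ g (U.mkQ x) = U.mkQ (ρ g x) := fun _ _ => rfl
  have hσ1 : ∀ g x, (σ g - 1) (U.mkQ x) = U.mkQ ((ρ g - 1) x) := fun _ _ => rfl
  have hq : ∀ g, (ρ g - 1) * (ρ g - 1) = 0 → (σ g - 1) * (σ g - 1) = 0 := fun g hg => by
    refine LinearMap.ext fun y => ?_
    obtain ⟨x, rfl⟩ := U.mkQ_surjective y
    rw [Module.End.mul_apply, hσ1, hσ1, ← Module.End.mul_apply, hg]
    rfl
  set δ' := (σ a - 1) * (σ b - 1) + (σ b - 1) * (σ a - 1) with hδ'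
  have hδ1 : ∀ x, δ' (U.mkQ x) = U.mkQ (δ x) := fun _ => rfl
  have hδq : ∀ (q : (ZMod p)[X]) x, aeval δ' q (U.mkQ x) = U.mkQ (aeval δ q x) := by
    intro q
    induction q using Polynomial.induction_on with
    | C c => intro x; simp [Module.algebraMap_end_apply]
    | add q r hq hr => intro x; rw [map_add, map_add, LinearMap.add_apply, LinearMap.add_apply,
        hq, hr, map_add]
    | monomial n c ih =>
      intro x
      rw [pow_succ, ← mul_assoc, map_mul, map_mul (aeval δ), aeval_X, aeval_X,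
        Module.End.mul_apply, Module.End.mul_apply, hδ1, ih]
  have hz1 : U.mkQ z ≠ 0 := fun h => hzU ((Submodule.Quotient.mk_eq_zero U).1 h)
  have hαz' : (σ a - 1) (U.mkQ z) = 0 := by
    rw [hσ1]; exact (Submodule.Quotient.mk_eq_zero U).2 (hU0 hαz)
  obtain ⟨f, v, hf, hXf, hv, -, hfv⟩ : ∃ (f : (ZMod p)[X]) (v : W ⧸ U), Irreducible f ∧
      ¬ X ∣ f ∧ v ≠ 0 ∧ True ∧ aeval δ' f v = 0 := by
    have hint : IsIntegral (ZMod p) δ := Algebra.IsIntegral.isIntegral δ
    obtain ⟨g, hg, hXg⟩ := exists_eq_pow_rootMultiplicity_mul_and_not_dvd (minpoly (ZMod p) δ)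
      (minpoly.ne_zero hint) 0
    rw [map_zero, sub_zero] at hg hXg
    refine H60.exists_irreducible_aeval_apply_eq_zero δ' (fun _ => True) (fun _ _ _ => trivial)
      g hXg _ hz1 trivial ?_
    rw [hδq]
    refine (Submodule.Quotient.mk_eq_zero U).2 (hU0 ⟨rootMultiplicity 0 (minpoly (ZMod p) δ), ?_⟩)
    have := minpoly.aeval (ZMod p) δ
    rw [hg, map_mul, map_pow, aeval_X] at this
    rw [← Module.End.mul_apply, this, LinearMap.zero_apply]
  have hfz : aeval δ' f (U.mkQ z) = 0 := by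
    by_contra hc
    have hinv := invariant_of_generators σ hab (hq a ha) (hq b hb)
      (U := LinearMap.ker (aeval δ' f))
      (fun x hx => by
        rw [LinearMap.mem_ker] at hx ⊢
        rw [← apply_aeval_of_commute (commute_gamma_left (hq a ha)), hx, map_zero])
      (fun x hx => by
        rw [LinearMap.mem_ker] at hx ⊢
        rw [← apply_aeval_of_commute (commute_gamma_right (hq b hb)), hx, map_zero])
    have hle : U ≤ (LinearMap.ker (aeval δ' f)).comap U.mkQ := fun x hx => by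
      rw [Submodule.mem_comap, Submodule.mkQ_apply, (Submodule.Quotient.mk_eq_zero U).2 hx]
      exact zero_mem _
    have h1 := hmax (y := (LinearMap.ker (aeval δ' f)).comap U.mkQ)
      ⟨hU0.trans hle, hc, fun g x hx => hinv g hx⟩ hle
    obtain ⟨x, rfl⟩ := U.mkQ_surjective v
    exact hv ((Submodule.Quotient.mk_eq_zero U).2 (h1 hfv))
  obtain ⟨θ, t, P, hP, haP, htP, hadd, hinj, h10, hθa, hθt⟩ :=
    la_simple hp2 σ (hq a ha) (hq b hb) hap hf hXf hz1 hαz' hfz l
  let θ' : (Fin 2 → ZMod p) →+ W ⧸ U := AddMonoidHom.mk' θ hadd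
  have hθi : Function.Injective θ := (injective_iff_map_eq_zero θ').2 hinj
  have hφ : ∀ {x : W} {c}, θ c = U.mkQ x → Function.invFun θ (U.mkQ x) = c := fun h =>
    h ▸ Function.leftInverse_invFun hθi _
  refine ⟨θ'.range.comap U.mkQ.toAddMonoidHom, fun x => Function.invFun θ (U.mkQ x), t, P, z, hP,
    haP, htP, hzZ, ⟨_, h10⟩, hφ h10, ?_, fun c => ?_, ?_, ?_⟩
  · rintro x ⟨c, hc⟩ y ⟨d, hd⟩
    have hc' : θ c = U.mkQ x := hc
    have hd' : θ d = U.mkQ y := hd
    beta_reduce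
    rw [hφ hc', hφ hd', hφ (c := c + d) (by rw [hadd, hc', hd', map_add])]
  · obtain ⟨x, hx⟩ := U.mkQ_surjective (θ c)
    exact ⟨x, ⟨c, hx.symm⟩, hφ hx.symm⟩
  · rintro x ⟨c, hc⟩
    have hc' : θ c = U.mkQ x := hc
    have h1 := hθa c
    rw [hc', hσ] at h1
    refine ⟨⟨_, h1.symm⟩, ?_⟩
    beta_reduce
    rw [hφ hc', hφ h1.symm]
  · rintro x ⟨c, hc⟩
    have hc' : θ c = U.mkQ x := hc
    have h1 := hθt c
    rw [hc', hσ] at h1
    refine ⟨⟨_, h1.symm⟩, ?_⟩
    beta_reduce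
    rw [hφ hc', hφ h1.symm]

end LA

end Cfsg.Agent.H61
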