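import Cfsg.Agent.H61.QuadCore
import Cfsg.Agent.H61.Chain
import Cfsg.Agent.H23.ZJ
import Cfsg.Agent.H25.Sect
import Cfsg.Agent.H70.CharP

/-!
Glauberman's theorem on the failure of control of strong fusion by `Z(J(S))`, `p` odd.
-/

set_option autoImplicit false

namespace Cfsg.Agent.H61

open Subgroup H72
open H23 hiding conj_mem_of_mem_normalizer conj_mem_of_mem_normalizer'
open scoped commutatorElement

universe u

variable {G : Type u} [Group G] {p : ℕ}

theorem le_normalizer_commInto {K Q N : Subgroup G} (h1 : K ≤ normalizer (Q : Set G))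
    (h2 : K ≤ normalizer (N : Set G)) : K ≤ normalizer (commInto Q N : Set G) :=
  le_normalizer_iff.2 fun g hg x hx =>
    ⟨mul_mem (mul_mem (h2 hg) hx.1) (inv_mem (h2 hg)), fun a ha => by
      have := conj_mem_of_mem_normalizer (h2 hg) (hx.2 _ (conj_mem_of_mem_normalizer' (h1 hg) ha))
      convert this using 1
      simp only [commutatorElement_def]; group⟩

theorem commInto_le_normalizer {Q N C : Subgroup G} (h1 : N ≤ C) (h2 : C ≤ Q) :
    commInto Q N ≤ normalizer (C : Set G) :=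
  le_normalizer_iff.2 fun g hg x hx => by
    have := C.mul_mem (h1 (hg.2 x (h2 hx))) hx
    simpa [commutatorElement_def] using this

theorem normalizer_le_normalizer_sSup_maxAb (e : ℕ) (P : Subgroup G) :
    normalizer (P : Set G) ≤ normalizer ((sSup (maxAb e P) : Subgroup G) : Set G) := by
  intro g hg
  rw [← cj_eq_iff] at hg ⊢
  rw [H72.cj, (gc_map_comap _).l_sSup, ← sSup_image, ← maxAb_map (MulAut.conj g).injective]
  exact congrArg (fun X => sSup (maxAb e X)) hg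

variable [Finite G]

theorem maxAb_eq_of_le {e : ℕ} {P Q : Subgroup G} (hQP : Q ≤ P) (h : ∀ A ∈ maxAb e P, A ≤ Q) :
    maxAb e Q = maxAb e P := by
  obtain ⟨A, hA⟩ := maxAb_nonempty e P
  exact Set.Subset.antisymm (maxAb_subset_of_le hA (h A hA) hQP)
    fun C hC => mem_maxAb_of_le hC (h C hC) hQP

variable [hp : Fact p.Prime]

omit hp in
theorem exists_minPar {T N W : Subgroup G} (hT : IsSylowIn p T N) (hTW : T ≤ W) (hNW : ¬ N ≤ W) :
    ∃ K ≤ N, MinPar p K T (K ⊓ W) := by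
  obtain ⟨K, hKN, ⟨h1, h2⟩, hmin⟩ := (Set.toFinite {K : Subgroup G | T ≤ K ∧
    ¬ K ≤ W}).exists_le_minimal (a := N) ⟨hT.le, hNW⟩
  refine ⟨K, hKN, hT.of_le h1 hKN, le_inf h1 hTW,
    lt_of_le_of_ne inf_le_left fun h => h2 (inf_eq_left.1 h), fun D d1 d2 => le_inf d2.le ?_⟩
  by_contra hc
  exact d2.not_ge (hmin (y := D) ⟨d1, hc⟩ d2.le)

theorem exists_minB {K Q Z : Subgroup G} (hQ : IsPGroup p Q) (hKQ : K ≤ normalizer (Q : Set G))
    (hQZ : Q ≤ normalizer (Z : Set G)) (h : ¬ K ≤ normalizer ((Z ⊓ Q : Subgroup G) : Set G)) :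
    ∃ B ≤ Q, K ≤ normalizer (B : Set G) ∧ ¬ K ≤ normalizer ((Z ⊓ B : Subgroup G) : Set G) ∧
      ⁅B, B⁆ ≤ Z ∧ ∀ C : Subgroup G, K ≤ normalizer (C : Set G) → Z ⊓ B ≤ C → B ≤ C := by
  obtain ⟨B, hBQ, ⟨h1, h2⟩, hmin⟩ := (Set.toFinite {B : Subgroup G | K ≤ normalizer (B : Set G) ∧
    ¬ K ≤ normalizer ((Z ⊓ B : Subgroup G) : Set G)}).exists_le_minimal (a := Q) ⟨hKQ, h⟩
  have h3 : ∀ C : Subgroup G, K ≤ normalizer (C : Set G) → Z ⊓ B ≤ C → B ≤ C := fun C c1 c2 => by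
    refine (hmin (y := B ⊓ C) ⟨H72.le_normalizer_inf h1 c1, ?_⟩ inf_le_left).trans inf_le_right
    rwa [← inf_assoc, inf_eq_left.2 c2]
  refine ⟨B, hBQ, h1, h2, ?_, h3⟩
  have hb : B ≠ ⊥ := by
    rintro rfl
    rw [inf_bot_eq] at h2
    exact h2 le_normalizer_of_normal
  have hlt := commutator_self_lt_of_isPGroup (hQ.to_le hBQ) hb
  have h4 : K ≤ normalizer ((Z ⊓ ⁅B, B⁆ : Subgroup G) : Set G) := by
    by_contra hc
    exact hlt.not_ge (hmin (y := ⁅B, B⁆) ⟨H72.le_normalizer_commutator h1 h1, hc⟩ hlt.le)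
  have hBZ := hBQ.trans hQZ
  have h5 := h3 _ (le_normalizer_commInto h1 h4) (le_commInto.2 ⟨inf_le_right.trans
    (H72.le_normalizer_inf hBZ (H72.le_normalizer_commutator le_normalizer le_normalizer)),
    le_inf ((commutator_mono inf_le_left le_rfl).trans (commutator_le_left_of_le_normalizer hBZ))
      (commutator_mono inf_le_right le_rfl)⟩)
  exact (le_commInto.1 h5).2.trans inf_le_left

omit [Finite G] hp in
theorem quad_of_mem_normalizer {A : Subgroup G} (hA : IsMulCommutative A) {a x : G} (ha : a ∈ A)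
    (hx : x ∈ normalizer (A : Set G)) : ⁅a, ⁅a, x⁆⁆ = 1 := by
  have h1 : ⁅a, x⁆ ∈ A := by
    rw [commutatorElement_def, mul_assoc, mul_assoc, ← mul_assoc x]
    exact mul_mem ha (conj_mem_of_mem_normalizer hx (inv_mem ha))
  exact commutatorElement_eq_one_iff_mul_comm.2 (comm_of_mem hA ha h1)

theorem quad_of_maxAb (hp2 : p ≠ 2) {T Q B U : Subgroup G} (hT : IsPGroup p T) (hQT : Q ≤ T)
    (hBQ : B ≤ Q) (hTB : T ≤ normalizer (B : Set G)) (hc : B ≤ centralizer (Q : Set G))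
    (hC : T ⊓ centralizer (B : Set G) ≤ Q) (hU : U ∈ maxAb 0 T) (hUQ : ¬ U ≤ Q) :
    ∃ a ∈ T, a ∉ Q ∧ ∀ x ∈ B, ⁅a, ⁅a, x⁆⁆ = 1 := by
  obtain ⟨A, hA, -, hnA, hBA⟩ := exists_maxAb_normalized hT (Or.inr rfl) le_rfl le_normalizer
    (hBQ.trans hQT) hTB (fun h => absurd h hp2) hU
    ((commutator_eq_bot_of_le_centralizer (hc.trans (centralizer_anti hBQ))).le.trans bot_le)
    (fun h => hUQ ((le_inf hU.1 ((le_centralizer_iff_isMulCommutative.2 hU.2.1).trans
      (centralizer_anti h))).trans hC))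
  have h1 : ¬ A ≤ Q := fun h => hnA fun x hx =>
    mem_of_mem_centralizer_maxAb hA (hQT (hBQ hx)) (pow_zero x) (centralizer_anti h (hc hx))
  obtain ⟨a, ha, haQ⟩ := SetLike.not_le_iff_exists.1 h1
  exact ⟨a, hA.1 ha, haQ, fun x hx => quad_of_mem_normalizer hA.2.1 ha (hBA hx)⟩

/-- The relative version, modulo a subgroup `X`. -/
theorem quad_or_char (hp2 : p ≠ 2) {T Q B X : Subgroup G} (hT : IsPGroup p T) (hQT : Q ≤ T)
    (hBQ : B ≤ Q) (hXB : X ≤ B) (hTB : T ≤ normalizer (B : Set G)) (hTX : T ≤ normalizer (X : Set G))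
    (hc : ⁅B, Q⁆ ≤ X) (hC : T ⊓ commInto B X ≤ Q) (hTQ : ¬ T ≤ Q) :
    (∃ a ∈ T, a ∉ Q ∧ ∀ x ∈ B, ⁅a, ⁅a, x⁆⁆ ∈ X) ∨ ∃ J ≤ Q, X < J ∧
      normalizer (X : Set G) ⊓ normalizer (T : Set G) ≤ normalizer (J : Set G) ∧
      normalizer (X : Set G) ⊓ normalizer (Q : Set G) ≤ normalizer (J : Set G) := by
  set L := normalizer (X : Set G) with hL
  have : (X.subgroupOf L).Normal := normal_in_normalizer
  set π := QuotientGroup.mk' (X.subgroupOf L) with hπ
  have hs : Function.Surjective π := QuotientGroup.mk'_surjective _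
  have hX : H25.pull π ⊥ = X := H25.pull_bot_mk' le_normalizer
  have hpp : ∀ C : Subgroup G, X ≤ C → C ≤ T → H25.pull π (H25.push π C) = C := fun C h1 h2 =>
    H25.pull_push (hX.le.trans h1) (h2.trans hTX)
  have eT := hpp T (hXB.trans (hBQ.trans hQT)) le_rfl
  have eQ := hpp Q (hXB.trans hBQ) hQT
  have eB := hpp B hXB (hBQ.trans hQT)
  set T' := H25.push π T
  set Q' := H25.push π Q
  set B' := H25.push π B
  have hT' : IsPGroup p T' := (H25.isPGroup_pull_iff hs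
    (hT.to_le (hX.le.trans (hXB.trans (hBQ.trans hQT))))).1 (hT.to_le eT.le)
  have hQT' : Q' ≤ T' := (H25.pull_le_pull hs).1 (by rwa [eT, eQ])
  have hone : ∀ y : L, π y = 1 ↔ (y : G) ∈ X := fun y => QuotientGroup.eq_one_iff y
  by_cases hall : ∀ A ∈ maxAb 0 T', A ≤ Q'
  · right
    refine ⟨H25.pull π (sSup (maxAb 0 T')), (H25.pull_mono (sSup_le hall)).trans eQ.le, ?_, ?_, ?_⟩
    · refine lt_of_le_of_ne (hX.ge.trans (H25.pull_mono bot_le)) fun h => ?_
      have h' := H25.pull_injective hs (hX.trans h)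
      refine zj_ne_bot (dvd_zero p) hT' (fun h1 => hTQ ?_)
        (le_bot_iff.1 ((zj_le_sSup 0 T').trans h'.ge))
      rw [← eT, ← eQ, h1]
      exact H25.pull_mono bot_le
    · rintro g ⟨g1, g2⟩
      refine (H25.mem_normalizer_pull hs ⟨g, g1⟩).2 (normalizer_le_normalizer_sSup_maxAb 0 T' ?_)
      exact (H25.mem_normalizer_pull hs ⟨g, g1⟩).1 (by rw [eT]; exact g2)
    · rintro g ⟨g1, g2⟩
      rw [← maxAb_eq_of_le hQT' hall]
      refine (H25.mem_normalizer_pull hs ⟨g, g1⟩).2 (normalizer_le_normalizer_sSup_maxAb 0 Q' ?_)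
      exact (H25.mem_normalizer_pull hs ⟨g, g1⟩).1 (by rw [eQ]; exact g2)
  · left
    push Not at hall
    obtain ⟨U, hU, hUQ⟩ := hall
    obtain ⟨a, ha, haQ, hq⟩ := quad_of_maxAb hp2 (B := B') hT' hQT'
      ((H25.pull_le_pull hs).1 (by rwa [eB, eQ])) (fun y hy => by
        obtain ⟨y, rfl⟩ := hs y
        rw [← H25.mem_pull, eT] at hy
        exact (H25.mem_normalizer_pull hs y).1 (by rw [eB]; exact hTB hy))
      (fun y hy => mem_centralizer_iff.2 fun w hw => by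
        obtain ⟨y, rfl⟩ := hs y
        obtain ⟨w, rfl⟩ := hs w
        rw [SetLike.mem_coe, ← H25.mem_pull, eQ] at hw
        rw [← H25.mem_pull, eB] at hy
        rw [eq_comm, ← commutatorElement_eq_one_iff_mul_comm, ← map_commutatorElement, hone]
        exact hc (commutator_mem_commutator hy hw))
      (fun y hy => by
        obtain ⟨y, rfl⟩ := hs y
        rw [← H25.mem_pull, eQ]
        refine hC ⟨eT.le ((H25.mem_pull y).2 hy.1), y.2, fun w hw => ?_⟩
        have hwL := hTX (hQT (hBQ hw))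
        have h1 := mem_centralizer_iff.1 hy.2 (π ⟨w, hwL⟩) ((H25.mem_pull' hwL).1 (eB.ge hw))
        rw [eq_comm, ← commutatorElement_eq_one_iff_mul_comm, ← map_commutatorElement, hone] at h1
        exact h1) hU hUQ
    obtain ⟨a, rfl⟩ := hs a
    rw [← H25.mem_pull, eT] at ha
    rw [← H25.mem_pull, eQ] at haQ
    refine ⟨a, ha, haQ, fun x hx => ?_⟩
    have hxL := hTX (hQT (hBQ hx))
    have h1 := hq (π ⟨x, hxL⟩) ((H25.mem_pull' hxL).1 (eB.ge hx))
    rw [← map_commutatorElement, ← map_commutatorElement, hone] at h1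
    exact h1

/-- The conclusion: a two-dimensional section inside `H` whose first basis vector comes from `Z`. -/
def HasWit (p : ℕ) (l : (ZMod p)ˣ) (H Z : Subgroup G) : Prop :=
  ∃ (B : Subgroup G) (φ : G → Fin 2 → ZMod p) (a t z : G), B ≤ H ∧ a ∈ H ∧ t ∈ H ∧ z ∈ Z ∧
    Wit p l B φ a t z

theorem hasWit_of_sylow (hp2 : p ≠ 2) {S K : Subgroup G}
    (h : MinPar p K S (K ⊓ normalizer (zj 0 S : Set G))) (hZ : zj 0 S ≤ pCoreOf p K)
    (l : (ZMod p)ˣ) : HasWit p l (normalizer (zj 0 S : Set G)) (zj 0 S) := by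
  have hSZ : S ≤ normalizer (zj 0 S : Set G) := h.le.trans inf_le_right
  have hQS : pCoreOf p K ≤ S := h.syl.pCoreOf_le
  obtain ⟨B, hBQ, hKB, hKY, hBZ, hmin⟩ := exists_minB (isPGroup_pCoreOf p K)
    (le_normalizer_pCoreOf K) (hQS.trans hSZ) (by
      rw [inf_eq_left.2 hZ]; exact fun h1 => h.lt.not_ge (le_inf le_rfl h1))
  obtain ⟨U, hU, hnU⟩ : ∃ U ∈ maxAb 0 S, ¬ B ≤ U := by
    by_contra hc
    push Not at hc
    exact hKY (by rwa [inf_eq_right.2 (show B ≤ zj 0 S from le_sInf hc)])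
  obtain ⟨A, hA, -, hnA, hBA⟩ := exists_maxAb_normalized h.syl.isPGroup (Or.inr rfl) le_rfl
    le_normalizer (hBQ.trans hQS) (h.syl.le.trans hKB) (fun h => absurd h hp2) hU
    (hBZ.trans (zj_le_of_mem hU)) hnU
  have h1 : ¬ A ≤ pCoreOf p K := fun h1 => hnA ((hmin _ ((le_normalizer_pCoreOf K).trans
    (normalizer_le_normalizer_zj 0 _)) (inf_le_left.trans (zj_le_zj hA h1 hQS))).trans
      (zj_le_of_mem (mem_maxAb_of_le hA h1 hQS)))
  obtain ⟨a, ha, haQ⟩ := SetLike.not_le_iff_exists.1 h1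
  obtain ⟨B₀, b1, φ, a', t, z, b2, b3, b4, b5, -⟩ := h.exists_wit hp2
    ((isPGroup_pCoreOf p K).to_le hBQ) hKB (H72.le_normalizer_commutator hKB hKB) le_rfl
    (le_inf hBZ (commutator_le_left_of_le_normalizer le_normalizer)) inf_le_right
    (H72.le_normalizer_inf inf_le_right (inf_le_left.trans hKB)) hKY (hA.1 ha) haQ
    (fun x hx => by rw [quad_of_mem_normalizer hA.2.1 ha (hBA hx)]; exact one_mem _) l
  exact ⟨B₀, φ, a', t, z, b1.trans (hBQ.trans (hQS.trans hSZ)), b2.2, b3.2, b4.1, b5⟩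

theorem hasWit_of_lt (hp2 : p ≠ 2) {S T K : Subgroup G} (hS : IsPGroup p S) (hTS : T ≤ S)
    (h : MinPar p K T (K ⊓ normalizer (zj 0 S : Set G))) (hZ : zj 0 S ≤ pCoreOf p K)
    (hN : S ⊓ normalizer (pCoreOf p K : Set G) ≤ T)
    (hmax : ∀ X ≤ T, zj 0 S ≤ X → S ⊓ normalizer (T : Set G) ≤ normalizer (X : Set G) →
      normalizer (X : Set G) ≤ normalizer (zj 0 S : Set G))
    (l : (ZMod p)ˣ) : HasWit p l (normalizer (zj 0 S : Set G)) (zj 0 S) := by
  set Z := zj 0 S with hZdef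
  set Q := pCoreOf p K with hQ
  have hSZ : S ≤ normalizer (Z : Set G) := le_normalizer.trans (normalizer_le_normalizer_zj 0 S)
  have hQT : Q ≤ T := h.syl.pCoreOf_le
  have hKQ : K ≤ normalizer (Q : Set G) := le_normalizer_pCoreOf K
  have hKZ : ¬ K ≤ normalizer (Z : Set G) := fun h1 => h.lt.not_ge (le_inf le_rfl h1)
  have hTp := h.syl.isPGroup
  have hTK := h.syl.le
  obtain ⟨X, -, ⟨hXQ, hKX, hNX⟩, hXmax⟩ := (Set.toFinite {C : Subgroup G | C ≤ Q ∧
      K ≤ normalizer (C : Set G) ∧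
      S ⊓ normalizer (T : Set G) ≤ normalizer (C : Set G)}).exists_le_maximal (a := ⊥)
    ⟨bot_le, le_normalizer_of_normal, le_normalizer_of_normal⟩
  have hZX : ¬ Z ≤ X := fun h1 => hKZ (hKX.trans (hmax X (hXQ.trans hQT) h1 hNX))
  have hTX := hTK.trans hKX
  set Y := (Z ⊔ X) ⊓ commInto T X with hY
  have hXY : X ≤ Y := le_inf le_sup_right
    (le_commInto.2 ⟨le_normalizer, commutator_le_left_of_le_normalizer hTX⟩)
  have hYQ : Y ≤ Q := inf_le_left.trans (sup_le hZ hXQ)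
  have hNY : S ⊓ normalizer (T : Set G) ≤ normalizer (Y : Set G) :=
    H72.le_normalizer_inf (H72.le_normalizer_sup (inf_le_left.trans hSZ) hNX)
      (le_normalizer_commInto inf_le_right hNX)
  have hKY : ¬ K ≤ normalizer (Y : Set G) := fun h1 => by
    obtain ⟨E, e1, e2, e3, -⟩ := exists_commutator_le_of_nilpotent (D := X) hTp.isNilpotent
      (hZ.trans hQT) le_rfl (hTS.trans hSZ) hZX
    exact e2 ((le_inf (le_sup_of_le_left e1) (le_commInto.2
      ⟨(e1.trans (hZ.trans hQT)).trans hTX, e3⟩)).trans (hXmax (y := Y) ⟨hYQ, h1, hNY⟩ hXY))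
  set B := H70.ncl Y K with hB
  have hYB : Y ≤ B := H70.le_ncl Y K
  have hKB : K ≤ normalizer (B : Set G) := H70.le_norm_ncl Y K
  have hBQ : B ≤ Q := H70.ncl_le hYQ hKQ
  have hBc : ⁅B, Q⁆ ≤ X := (le_commInto.1 (H70.ncl_le (A := Y) (N := commInto Q X) (fun y hy => ⟨hy.2.1,
    fun q hq => hy.2.2 q (hQT hq)⟩) (le_normalizer_commInto hKQ hKX))).2
  have hC : T ⊓ commInto B X ≤ Q := by
    have hn : K ≤ normalizer ((K ⊓ commInto B X : Subgroup G) : Set G) :=
      H72.le_normalizer_inf le_normalizer (le_normalizer_commInto hKB hKX)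
    refine (le_inf inf_le_left (inf_le_inf_right _ hTK)).trans (h.inf_le_pCoreOf ?_ hn)
    refine le_trans (le_inf inf_le_left (inf_le_right.trans (commInto_le_normalizer hXY hYB)))
      (h.normalizer_le ((le_inf hTS le_normalizer).trans hNY) hKY)
  have hR : ¬ T ⊓ centralizer (Z : Set G) ≤ Q := fun h1 => by
    have h2 : sSup (maxAb 0 S) ≤ Q := by
      by_contra hc
      obtain ⟨E, e1, e2, e3, -⟩ := exists_commutator_le_of_nilpotent (D := Q) hS.isNilpotent
        (sSup_maxAb_le 0 S) (hQT.trans hTS) ((hQT.trans hTS).trans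
          (le_normalizer.trans (normalizer_le_normalizer_sSup_maxAb 0 S))) hc
      refine e2 ((le_inf ((le_inf (e1.trans (sSup_maxAb_le 0 S)) ?_).trans hN)
        (e1.trans (le_centralizer_iff.1 (zj_le_centralizer 0 S)))).trans h1)
      exact le_normalizer_iff_commutator_le_right.2 e3
    have h3 := maxAb_eq_of_le (hQT.trans hTS) fun A hA => (le_sSup hA).trans h2
    refine hKZ (hKQ.trans ?_)
    rw [hZdef, zj, ← h3]
    exact normalizer_le_normalizer_zj 0 Q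
  rcases quad_or_char hp2 hTp hQT hBQ (hXY.trans hYB) (hTK.trans hKB) hTX hBc hC
    (fun h1 => hR (inf_le_left.trans h1)) with ⟨a, haT, haQ, hq⟩ | ⟨J, j1, j2, j3, j4⟩
  · obtain ⟨B₀, b1, φ, a', t, z, b2, b3, b4, b5, b6⟩ := h.exists_wit hp2 (Y := (Z ⊔ X) ⊓ B)
      (hTp.to_le (hBQ.trans hQT)) hKB hKX ((commutator_mono le_rfl hBQ).trans hBc)
      (le_inf le_sup_right (hXY.trans hYB)) inf_le_right
      (H72.le_normalizer_inf (H72.le_normalizer_sup inf_le_right (inf_le_left.trans hKX))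
        (inf_le_left.trans hKB)) (fun h1 => by
          have h2 : B ≤ Z ⊔ X := (H70.ncl_le (le_inf inf_le_left hYB) h1).trans inf_le_left
          refine hR ((le_inf inf_le_left (le_commInto.2 ⟨inf_le_left.trans hTX,
            (commutator_mono le_rfl h2).trans (commutator_sup_le' ?_ ?_
              ((hZ.trans hQT).trans hTX) le_normalizer)⟩)).trans hC)
          · exact (commutator_eq_bot_of_le_centralizer inf_le_right).le.trans bot_le
          · exact commutator_le_right_of_le_normalizer (inf_le_left.trans hTX))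
      haT haQ hq l
    obtain ⟨z', hz', x, hx, rfl⟩ := mem_sup_of_normalizes ((hZ.trans hQT).trans hTX) b4.1
    have h1 : z' ∈ B₀ := by simpa using B₀.mul_mem b5.mem (B₀.inv_mem (b6 x hx).1)
    exact ⟨B₀, φ, a', t, z', b1.trans (hBQ.trans ((hQT.trans hTS).trans hSZ)), b2.2, b3.2, hz',
      b5.change h1 (by rw [b5.mul _ h1 _ (b6 x hx).1, (b6 x hx).2, add_zero])⟩
  · exact (j2.not_ge (hXmax (y := J) ⟨j1, (le_inf hKX hKQ).trans j4,
      (le_inf hNX inf_le_right).trans j3⟩ j2.le)).elim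

theorem hasWit_of_over (hp2 : p ≠ 2) {S R₀ : Subgroup G} (hS : IsSylowIn p S ⊤)
    (hR₀ : IsPGroup p R₀) (hZR : zj 0 S ≤ R₀)
    (hN₀ : ¬ normalizer (R₀ : Set G) ≤ normalizer (zj 0 S : Set G)) (l : (ZMod p)ˣ) :
    HasWit p l (normalizer (zj 0 S : Set G)) (zj 0 S) := by
  set Z := zj 0 S with hZdef
  set H := normalizer (Z : Set G) with hH
  have hSZ : S ≤ H := le_normalizer.trans (normalizer_le_normalizer_zj 0 S)
  let 𝓣 : Set (Subgroup G) := {T | IsPGroup p T ∧ Z ≤ T ∧ T ≤ H ∧ ∃ R : Subgroup G, IsPGroup p R ∧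
    Z ≤ R ∧ T ≤ normalizer (R : Set G) ∧ ¬ normalizer (R : Set G) ≤ H}
  obtain ⟨T, hTS, ⟨hT, hZT, hTH, R, hR, hZR', hTR, hRH⟩, hmax⟩ : ∃ T ≤ S, T ∈ 𝓣 ∧
      ∀ T' ∈ 𝓣, Nat.card T' ≤ Nat.card T := by
    obtain ⟨T, ⟨hT, hZT, hTH, R, hR, hZR', hTR, hRH⟩, hmax⟩ := Set.exists_max_image 𝓣
      (fun T => Nat.card T) (Set.toFinite _) ⟨Z, hS.isPGroup.to_le (zj_le 0 S), le_rfl,
        le_normalizer, R₀, hR₀, hZR, hZR.trans le_normalizer, hN₀⟩
    obtain ⟨g, hg, hgT⟩ := (hS.of_le hSZ le_top).exists_cj_le hT hTH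
    have e : cj g Z = Z := cj_eq_of_mem_normalizer hg
    refine ⟨cj g T, hgT, ⟨IsPGroup_cj g hT, e ▸ cj_mono g hZT, cj_le_of_mem hg hTH, cj g R,
      IsPGroup_cj g hR, e ▸ cj_mono g hZR', cj_normalizer g R ▸ cj_mono g hTR, fun h => hRH ?_⟩,
      fun T' hT' => (hmax T' hT').trans (card_cj g T).ge⟩
    rwa [← cj_normalizer, cj_le_iff, cj_eq_of_mem (H.inv_mem hg)] at h
  have hbig : ∀ T₁ R₁ : Subgroup G, IsPGroup p T₁ → T < T₁ → T₁ ≤ H → IsPGroup p R₁ → Z ≤ R₁ →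
      T₁ ≤ normalizer (R₁ : Set G) → normalizer (R₁ : Set G) ≤ H := fun T₁ R₁ a b c d e f => by
    by_contra hc
    exact (card_lt_card_of_lt b).not_ge (hmax T₁ ⟨a, hZT.trans b.le, c, R₁, d, e, f, hc⟩)
  have hNT : normalizer (T : Set G) ≤ H := by
    rcases hTS.lt_or_eq with h | h
    · exact hbig _ T hS.isPGroup.to_inf_left (lt_inf_normalizer_of_isPGroup hS.isPGroup h)
        (inf_le_left.trans hSZ) hT hZT inf_le_right
    · rw [h]; exact normalizer_le_normalizer_zj 0 S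
  have hsyl : IsSylowIn p T (normalizer (R : Set G)) := ⟨hTR, hT, fun T₁ a b c => by
    by_contra hc
    exact hRH (hbig _ R a.to_inf_left (lt_inf_normalizer_of_isPGroup a (lt_of_le_of_ne b (Ne.symm hc)))
      (inf_le_right.trans hNT) hR hZR' (inf_le_left.trans c))⟩
  obtain ⟨K, hKR, hK⟩ := exists_minPar hsyl hTH hRH
  have hRT : R ≤ T := hsyl.le_of_normalizes hR le_normalizer hTR
  have hZQ : Z ≤ pCoreOf p K := hZR'.trans (le_pCoreOf hR (hRT.trans hK.syl.le) hKR)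
  rcases hTS.lt_or_eq with h | h
  · refine hasWit_of_lt hp2 hS.isPGroup hTS hK hZQ ?_ (fun X x1 x2 x3 => ?_) l
    · by_contra hc
      refine hK.lt.not_ge (le_inf le_rfl ((le_normalizer_pCoreOf K).trans (hbig
        (S ⊓ normalizer (pCoreOf p K : Set G)) _ hS.isPGroup.to_inf_left
        (lt_of_le_of_ne (le_inf hTS (hK.syl.le.trans (le_normalizer_pCoreOf K)))
          fun h1 => hc h1.ge) (inf_le_left.trans hSZ) (isPGroup_pCoreOf p K) hZQ inf_le_right)))
    · exact hbig _ X hS.isPGroup.to_inf_left (lt_inf_normalizer_of_isPGroup hS.isPGroup h)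
        (inf_le_left.trans hSZ) (hT.to_le x1) x2 x3
  · subst h
    exact hasWit_of_sylow hp2 hK hZQ l

theorem ctl_of_card {S H : Subgroup G} (hS : IsSylowIn p S ⊤) {n : ℕ}
    (h : ∀ U ≤ S, FN p ⊤ S U → n ≤ Nat.card U → ∀ x ∈ normalizer (U : Set G), ∃ y ∈ H, Same U y x)
    {A : Subgroup G} (hA : A ≤ S) (hn : n ≤ Nat.card A) {g : G} (hg : cj g A ≤ S) :
    ∃ y ∈ H, Same A y g := by
  have hc := alperin_FN hS hA (mem_top g) hg
  clear hg
  induction hc with
  | one => exact ⟨1, one_mem _, Same.refl _ _⟩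
  | @step g x _ hx ih =>
    obtain ⟨y, hy, h1⟩ := ih
    obtain ⟨U, ⟨u1, u2⟩, u3, -, u4⟩ := hx
    obtain ⟨w, hw, h2⟩ := h U u1 u2 (hn.trans ((card_cj g A).ge.trans (card_le_of_le u3))) x u4
    exact ⟨w * y, mul_mem hw hy, h1.comp (h2.restrict u3)⟩

/-- **Glauberman**: if `N(Z(J(S)))` does not control strong fusion, there is a witness. -/
theorem hasWit_of_not_control (hp2 : p ≠ 2) {S A : Subgroup G} (hS : IsSylowIn p S ⊤) (hA : A ≤ S)
    {g : G} (hg : cj g A ≤ S) (hn : ∀ y ∈ normalizer (zj 0 S : Set G), ¬ Same A y g)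
    (l : (ZMod p)ˣ) : HasWit p l (normalizer (zj 0 S : Set G)) (zj 0 S) := by
  set Z := zj 0 S with hZdef
  set H := normalizer (Z : Set G) with hH
  have hSZ : S ≤ H := le_normalizer.trans (normalizer_le_normalizer_zj 0 S)
  obtain ⟨Q, ⟨hQS, hFN, x, hx, hbad⟩, hmax⟩ := Set.exists_max_image
    {U : Subgroup G | U ≤ S ∧ FN p ⊤ S U ∧ ∃ x ∈ normalizer (U : Set G), ∀ y ∈ H, ¬ Same U y x}
    (fun U => Nat.card U) (Set.toFinite _) (by
      by_contra hc
      obtain ⟨y, hy, h1⟩ := ctl_of_card (H := H) hS (n := 0) (fun U u1 u2 _ x hx => by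
        by_contra h2
        push Not at h2
        exact hc ⟨U, u1, u2, x, hx, h2⟩) hA (Nat.zero_le _) hg
      exact hn y hy h1)
  have hgood : ∀ P ≤ S, Q < P → ∀ x ∈ normalizer (P : Set G), ∃ y ∈ H, Same P y x :=
    fun P p1 p2 x hx => ctl_of_card hS (n := Nat.card P) (fun U u1 u2 u3 x hx => by
      by_contra h2
      push Not at h2
      exact (card_lt_card_of_lt p2).not_ge (u3.trans (hmax U ⟨u1, u2, x, hx, h2⟩))) p1 le_rfl
      ((cj_eq_of_mem_normalizer hx).le.trans p1)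
  have hQp := hS.isPGroup.to_le hQS
  by_cases hZQ : Z ≤ Q
  · exact hasWit_of_over hp2 hS hQp hZQ (fun h => hbad x (h hx) (Same.refl _ _)) l
  let W : Subgroup G :=
    { carrier := {w | w ∈ normalizer (Q : Set G) ∧ ∃ y ∈ H, Same Q y w}
      one_mem' := ⟨one_mem _, 1, one_mem _, Same.refl _ _⟩
      mul_mem' := by
        rintro a b ⟨a1, y, hy, a2⟩ ⟨b1, w, hw, b2⟩
        exact ⟨mul_mem a1 b1, y * w, mul_mem hy hw,
          b2.comp (by rwa [cj_eq_of_mem_normalizer b1])⟩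
      inv_mem' := by
        rintro a ⟨a1, y, hy, a2⟩
        refine ⟨inv_mem a1, y⁻¹, inv_mem hy, ?_⟩
        have := a2.inv
        rwa [cj_eq_of_mem_normalizer a1] at this }
  set T := S ⊓ normalizer (Q : Set G) with hT
  have hsyl : IsSylowIn p T (normalizer (Q : Set G)) := by
    have := hFN
    rwa [FN, top_inf_eq] at this
  obtain ⟨K, hKQ, hK⟩ := exists_minPar (W := W) hsyl
    (fun t ht => ⟨ht.2, t, hSZ ht.1, Same.refl _ _⟩) (fun h => by
      obtain ⟨y, hy, h1⟩ := (h hx).2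
      exact hbad y hy h1)
  have hQT : Q ≤ T := le_inf hQS le_normalizer
  have hKW : ¬ K ≤ W := fun h1 => hK.lt.not_ge (le_inf le_rfl h1)
  have hO : pCoreOf p K = Q := by
    have h1 : Q ≤ pCoreOf p K := le_pCoreOf hQp (hQT.trans hK.syl.le) hKQ
    by_contra hc
    refine hKW fun k hk => ⟨hKQ hk, ?_⟩
    obtain ⟨y, hy, h2⟩ := hgood _ (hK.syl.pCoreOf_le.trans inf_le_left)
      (lt_of_le_of_ne h1 (Ne.symm hc)) k (le_normalizer_pCoreOf K hk)
    exact ⟨y, hy, h2.restrict h1⟩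
  obtain ⟨E, e1, e2, e3, -⟩ := exists_commutator_le_of_nilpotent (D := Q) hS.isPGroup.isNilpotent
    (zj_le 0 S) hQS (hQS.trans hSZ) hZQ
  obtain ⟨a, haE, haQ⟩ := SetLike.not_le_iff_exists.1 e2
  have haZ : a ∈ Z := e1 haE
  have haT : a ∈ T := ⟨zj_le 0 S haZ, le_normalizer_iff_commutator_le_right.2 e3 haE⟩
  have hWY : ∀ B ≤ Q, K ≤ normalizer (B : Set G) →
      K ⊓ W ≤ normalizer ((Z ⊓ B : Subgroup G) : Set G) := fun B b1 b2 k hk =>
    mem_normalizer_of_conj_mem fun u hu => by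
      obtain ⟨y, hy, h1⟩ := hk.2.2
      refine ⟨?_, conj_mem_of_mem_normalizer (b2 hk.1) hu.2⟩
      rw [← h1 u (b1 hu.2)]
      exact conj_mem_of_mem_normalizer hy hu.1
  have hKZ : ¬ K ≤ normalizer ((Z ⊓ Q : Subgroup G) : Set G) := fun h1 => by
    set C := K ⊓ (commInto Q (Z ⊓ Q) ⊓ centralizer ((Z ⊓ Q : Subgroup G) : Set G)) with hC
    have hCn : K ≤ normalizer (C : Set G) := H72.le_normalizer_inf le_normalizer
      (H72.le_normalizer_inf (le_normalizer_commInto hKQ h1) (le_normalizer_centralizer h1))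
    have haC : a ∈ C := ⟨hK.syl.le haT, ⟨h1 (hK.syl.le haT), fun q hq =>
      ⟨commutator_le_left_of_le_normalizer (hQS.trans hSZ) (commutator_mem_commutator haZ hq),
        e3 (commutator_mem_commutator haE hq)⟩⟩,
      mem_centralizer_iff.2 fun y hy => comm_of_mem (zj_comm 0 S) hy.1 haZ⟩
    have hCW : C ≤ K ⊓ W := by
      have h2 := IsSylowIn_sup_pRes (hK.syl.inf_normal inf_le_left hCn)
      refine h2.ge.trans (sup_le (inf_le_left.trans hK.le) ?_)
      refine le_inf ((pRes_le C).trans inf_le_left) (pRes_le_iff.2 fun c hc hcp => ?_)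
      refine ⟨hKQ hc.1, 1, one_mem _, same_one_of_mem_centralizer (mem_centralizer_iff.2
        fun q hq => ?_)⟩
      refine commute_of_commutator_mem (hQp.to_le inf_le_right) hcp hc.2.2 ?_
      rw [← commutatorElement_inv]
      exact inv_mem (hc.2.1.2 q hq)
    exact haQ (hO ▸ hK.inf_le_pCoreOf hCW hCn ⟨haT, haC⟩)
  obtain ⟨B, hBQ, hKB, hKY, hBZ, -⟩ := exists_minB hQp hKQ (hQS.trans hSZ) hKZ
  obtain ⟨B₀, b1, φ, a', t, z, b2, b3, b4, b5, -⟩ := hK.exists_wit hp2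
    (hQp.to_le hBQ) hKB (H72.le_normalizer_commutator hKB hKB) le_rfl
    (le_inf hBZ (commutator_le_left_of_le_normalizer le_normalizer)) inf_le_right
    (hWY B hBQ hKB) hKY haT (hO ▸ haQ)
    (fun x hx => by
      rw [quad_of_mem_normalizer (zj_comm 0 S) haZ (hSZ (hQS (hBQ hx)))]; exact one_mem _) l
  obtain ⟨y, hy, h1⟩ := b2.2.2
  obtain ⟨w, hw, h2⟩ := b3.2.2
  exact ⟨B₀, φ, y, w, z, b1.trans (hBQ.trans (hQS.trans hSZ)), hy, hw, b4.1,
    b5.of_same (h1.restrict (b1.trans hBQ)) (h2.restrict (b1.trans hBQ))⟩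

end Cfsg.Agent.H61
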